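import Mathlib

/-!
# Consequences of solvability in odd order

Everything here takes that property as an explicit argument `hsol`.
-/

set_option autoImplicit false

namespace Cfsg.Agent.OddUse

/-- A non-abelian simple group is not solvable. -/
theorem not_isSolvable_of_simple {G : Type*} [Group G] [IsSimpleGroup G]
    (hG : ¬ IsMulCommutative G) : ¬ Group.IsSolvable G := fun h =>
  hG ⟨⟨IsSimpleGroup.comm_iff_isSolvable.2 h⟩⟩

/-- A non-abelian simple group has even order, given solvability in odd order. -/
theorem even_card_of_simple {G : Type*} [Group G] [IsSimpleGroup G]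
    (hsol : Odd (Nat.card G) → Group.IsSolvable G) (hG : ¬ IsMulCommutative G) :
    Even (Nat.card G) :=
  (Nat.even_or_odd _).resolve_right fun h => not_isSolvable_of_simple hG (hsol h)

end Cfsg.Agent.OddUse
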