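import Cfsg.Agent.Lib.OddUse.Basic
import Cfsg.Agent.Lib.Invol.ZStar

/-!
A non-cyclic simple group contains a four-group, given solvability in odd order.
-/

set_option autoImplicit false

namespace Cfsg.Agent.OddUse

open Subgroup

theorem exists_kleinFour {G : Type*} [Group G] [Finite G] [IsSimpleGroup G]
    (hsol : Odd (Nat.card G) → Group.IsSolvable G) (hG : ¬ IsCyclic G) : ∃ E : Subgroup G, IsKleinFour E := by
  haveI : Fact (Nat.Prime 2) := ⟨Nat.prime_two⟩
  have hnc : ¬ IsMulCommutative G := fun h => hG (by
    haveI := h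
    letI : CommGroup G := { (inferInstance : Group G) with mul_comm := mul_comm' }
    exact IsSimpleGroup.isCyclic)
  have hev := even_card_of_simple hsol hnc
  obtain ⟨t, ht⟩ := exists_prime_orderOf_dvd_card' 2 hev.two_dvd
  have htt : t * t = 1 := by rw [← pow_two, ← ht]; exact pow_orderOf_eq_one t
  by_contra hno
  have hiso : Cfsg.IsIsolatedInvolution t := by
    refine ⟨ht, fun g hg => ?_⟩
    by_contra hne
    set u := g * t * g⁻¹ with hu
    have huu : u * u = 1 := by
      rw [hu, show g * t * g⁻¹ * (g * t * g⁻¹) = g * (t * t) * g⁻¹ by group, htt]; group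
    have ht1 : t ≠ 1 := fun e => by rw [e, orderOf_one] at ht; norm_num at ht
    have hu1 : u ≠ 1 := fun e => ht1 (by
      calc t = g⁻¹ * u * g := by rw [hu]; group
        _ = 1 := by rw [e]; group)
    refine hno ⟨Subgroup.closure {t, u}, ?_⟩
    let E : Subgroup G :=
      { carrier := {1, t, u, t * u}
        one_mem' := by simp
        mul_mem' := by
          have c := hg.eq
          have h1 : ∀ x : G, t * (t * x) = x := fun x => by rw [← mul_assoc, htt, one_mul]
          have h2 : ∀ x : G, u * (u * x) = x := fun x => by rw [← mul_assoc, huu, one_mul]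
          have h3 : ∀ x : G, u * (t * x) = t * (u * x) := fun x => by rw [← mul_assoc, ← c, mul_assoc]
          rintro a b (rfl | rfl | rfl | rfl) (rfl | rfl | rfl | rfl) <;>
            simp [Set.mem_insert_iff, htt, huu, ← c, h1, h2, h3, mul_assoc]
        inv_mem' := by
          have it : t⁻¹ = t := inv_eq_of_mul_eq_one_right htt
          have iu : u⁻¹ = u := inv_eq_of_mul_eq_one_right huu
          rintro a (rfl | rfl | rfl | rfl) <;> simp [it, iu, mul_inv_rev, hg.eq] }
    have hE : Subgroup.closure {t, u} = E := by
      refine le_antisymm ((Subgroup.closure_le _).2 ?_) ?_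
      · rintro x (rfl | rfl)
        exacts [Or.inr (Or.inl rfl), Or.inr (Or.inr (Or.inl rfl))]
      · rintro x (rfl | rfl | rfl | rfl)
        exacts [one_mem _, Subgroup.subset_closure (by simp), Subgroup.subset_closure (by simp),
          mul_mem (Subgroup.subset_closure (by simp)) (Subgroup.subset_closure (by simp))]
    rw [hE]
    have h12 : t * u ≠ 1 := fun e => hne (by
      calc u = t * t * u := by rw [htt, one_mul]
        _ = t := by rw [mul_assoc, e, mul_one])
    have hcard : Nat.card E = 4 := by
      show Set.ncard ({1, t, u, t * u} : Set G) = 4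
      rw [Set.ncard_insert_of_notMem, Set.ncard_insert_of_notMem, Set.ncard_pair]
      · exact fun e => ht1 (by simpa using e)
      · simp only [Set.mem_insert_iff, Set.mem_singleton_iff, not_or]
        exact ⟨fun e => hne e.symm, fun e => hu1 (by simpa using e.symm)⟩
      · simp only [Set.mem_insert_iff, Set.mem_singleton_iff, not_or]
        exact ⟨ht1.symm, hu1.symm, h12.symm⟩
    haveI : Nontrivial E := Finite.one_lt_card_iff_nontrivial.1 (by omega)
    refine ⟨hcard, (Monoid.exponent_eq_prime_iff (G := E) Nat.prime_two).2 fun x hx => ?_⟩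
    refine orderOf_eq_prime (Subtype.ext ?_) hx
    show (x : G) ^ 2 = 1
    rcases x.2 with e | e | e | e <;> rw [pow_two, e]
    · simp
    · exact htt
    · exact huu
    · rw [show t * u * (t * u) = t * (u * t) * u by group, ← hg.eq, ← mul_assoc t t u, htt, one_mul, huu]
  obtain ⟨N, hN, hodd, hmem⟩ := ZStar.exists_odd_normal hiso
  rcases IsSimpleGroup.eq_bot_or_eq_top_of_normal N hN with rfl | rfl
  · refine hnc ⟨⟨fun a b => ?_⟩⟩
    have hcen : t ∈ Subgroup.center G := Subgroup.mem_center_iff.2 fun x => by
      have h := Subgroup.mem_bot.1 (hmem x)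
      calc x * t = (t * x * t⁻¹ * x⁻¹) * x * t := by rw [h, one_mul]
        _ = t * x := by group
    rcases IsSimpleGroup.eq_bot_or_eq_top_of_normal (Subgroup.center G) inferInstance with e | e
    · rw [e, Subgroup.mem_bot] at hcen
      rw [hcen, orderOf_one] at ht
      norm_num at ht
    · exact (Subgroup.mem_center_iff.1 (e ▸ Subgroup.mem_top a) b).symm
  · rw [Subgroup.card_top] at hodd
    exact Nat.not_even_iff_odd.2 hodd hev

end Cfsg.Agent.OddUse
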