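import Cfsg.Agent.S1238
import Cfsg.Agent.S0949
import Cfsg.Agent.S0225
import Cfsg.Agent.S0215

/-!
# Sylow 2-subgroups of even simple groups of 2-rank at most two
-/

set_option autoImplicit false

namespace Cfsg.Agent.OddUse

open Cfsg

/-- Sylow 2-subgroups of a non-abelian simple group of even order without elementary abelian
subgroups of order 8. -/
theorem simple_rank_two_sylow {G : Type*} [Group G] [Finite G] [IsSimpleGroup G]
    (hG : ¬ IsMulCommutative G) (heven : Even (Nat.card G)) (h2 : Cfsg.PRankLE 2 2 G)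
    (S : Sylow 2 G) {F : Type*} [Field F] [Fintype F] (hF : Fintype.card F = 16)
    (P : Sylow 2 (Cfsg.PSU 3 F 4)) :
    (∃ n : ℕ, 2 ≤ n ∧ Nonempty ((S : Subgroup G) ≃* DihedralGroup n)) ∨
      Cfsg.IsQuasiDihedral (S : Subgroup G) ∨ Cfsg.IsWreathed (S : Subgroup G) ∨
      Nonempty ((S : Subgroup G) ≃* (P : Subgroup (Cfsg.PSU 3 F 4))) := by
  have hbot : ∀ N : Subgroup G, N.Normal → Odd (Nat.card N) → N = ⊥ := by
    intro N hN hodd
    rcases hN.eq_bot_or_eq_top with h | h
    · exact h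
    · subst h
      rw [Nat.card_congr Subgroup.topEquiv.toEquiv] at hodd
      exact absurd heven (Nat.not_even_iff_odd.2 hodd)
  have hcen : ∀ z : G, z ≠ 1 → (∀ g : G, z * g * z⁻¹ * g⁻¹ = 1) → False := by
    intro z hz hc
    rcases (Subgroup.center G).normal_of_characteristic.eq_bot_or_eq_top with h | h
    · refine hz (Subgroup.mem_bot.1 (h ▸ Subgroup.mem_center_iff.2 fun g => ?_))
      exact (mul_inv_eq_iff_eq_mul.1 (mul_inv_eq_one.1 (hc g))).symm
    · exact hG ⟨⟨fun a b => Subgroup.mem_center_iff.1 (h ▸ Subgroup.mem_top b) a⟩⟩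
  have hne : ∀ z : G, orderOf z = 2 → z ≠ 1 := fun z hz h => by
    rw [h, orderOf_one] at hz; omega
  have hiso : ∀ z : G, ¬ Cfsg.IsIsolatedInvolution z := by
    intro z hz
    obtain ⟨N, hN, hodd, hc⟩ := Cfsg.Agent.ZStar.exists_odd_normal hz
    exact hcen z (hne z hz.1) fun g => Subgroup.mem_bot.1 (hbot N hN hodd ▸ hc g)
  have h1 : ¬ Cfsg.PRankLE 2 1 G := by
    intro h1
    by_cases hk : ∀ E : Subgroup G, ¬ IsKleinFour E
    · obtain ⟨z, hz, N, hN, hodd, hc⟩ := Cfsg.Agent.S0225.result heven hk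
      exact hcen z (hne z hz) fun g => Subgroup.mem_bot.1 (hbot N hN hodd ▸ hc g)
    · push Not at hk
      obtain ⟨E, hE⟩ := hk
      haveI := hE
      have hcm : IsMulCommutative E := ⟨⟨fun a b => mul_comm_of_exponent_two IsKleinFour.exponent_two a b⟩⟩
      have := h1 E hcm fun a ha => by
        have h' := Monoid.pow_exponent_eq_one (⟨a, ha⟩ : E)
        rw [IsKleinFour.exponent_two] at h'
        exact congrArg Subtype.val h'
      rw [IsKleinFour.card_four] at this
      omega
  have hidx : ∀ H : Subgroup G, H.index ≠ 2 := by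
    intro H hH
    rcases (Subgroup.normal_of_index_eq_two hH).eq_bot_or_eq_top with h | h
    · rw [h, Subgroup.index_bot] at hH
      haveI := isCyclic_of_prime_card (α := G) (hp := ⟨Nat.prime_two⟩) hH
      exact hG IsCyclic.commutative
    · rw [h, Subgroup.index_top] at hH
      omega
  rcases Cfsg.Agent.S1238.result h2 h1 hidx hiso S hF P with h | h | h | ⟨n, hn, ⟨e⟩⟩ | h
  · exact Or.inl h
  · exact Or.inr (Or.inl h)
  · exact Or.inr (Or.inr (Or.inl h))
  · exfalso
    obtain ⟨hSn, -, -⟩ := Cfsg.Agent.S0949.result S n hn e hbot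
    rcases hSn.eq_bot_or_eq_top with h | h
    · have h' := Nat.card_congr e.toEquiv
      rw [h, Subgroup.card_bot] at h'
      rw [Nat.card_congr Multiplicative.toAdd, Nat.card_prod, Nat.card_zmod] at h'
      have : 1 < 2 ^ n := Nat.one_lt_two_pow (by omega)
      nlinarith
    · refine hG ⟨⟨fun a b => ?_⟩⟩
      have : (⟨a, h ▸ Subgroup.mem_top a⟩ : (S : Subgroup G)) * ⟨b, h ▸ Subgroup.mem_top b⟩ =
          ⟨b, h ▸ Subgroup.mem_top b⟩ * ⟨a, h ▸ Subgroup.mem_top a⟩ :=
        e.injective (by rw [map_mul, map_mul, mul_comm])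
      exact congrArg Subtype.val this
  · exact Or.inr (Or.inr (Or.inr h))

end Cfsg.Agent.OddUse
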