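import Cfsg.Agent.S5212
import Cfsg.Agent.S0949
import Cfsg.Agent.Lib.Fus.GroupSystem
import Cfsg.Agent.Lib.Transfer.Fusion
import Cfsg.Agent.Lib.Grp.Cores

/-!
# Metacyclic Sylow 2-subgroups with cyclic quotient of order more than two
-/

set_option autoImplicit false

namespace Cfsg.Agent.OddUse

open Subgroup

universe u

/-- A group with a normal 2-complement is solvable, given solvability in odd order. -/
theorem isSolvable_of_two_complement {G : Type u} [Group G] [Finite G]
    (hFT : ∀ (K : Type u) [Group K] [Finite K], Odd (Nat.card K) → Group.IsSolvable K)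
    (h : Cfsg.HasNormalPComplement 2 G) : Group.IsSolvable G := by
  haveI : Fact (Nat.Prime 2) := ⟨Nat.prime_two⟩
  obtain ⟨P, N, hN, hc⟩ := h
  haveI := hN
  haveI : Group.IsSolvable N := by
    refine hFT N (Nat.odd_iff.2 (Nat.two_dvd_ne_zero.1 fun hd => ?_))
    have e1 : Nat.card (P : Subgroup G) * (P : Subgroup G).index = Nat.card G := Subgroup.card_mul_index _
    have e2 : Nat.card N * Nat.card (P : Subgroup G) = Nat.card G := hc.card_mul
    rw [← e1, mul_comm] at e2
    exact P.not_dvd_index (Nat.eq_of_mul_eq_mul_left Nat.card_pos e2 ▸ hd)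
  haveI : Group.IsNilpotent (P : Subgroup G) := P.isPGroup'.isNilpotent
  haveI : Group.IsSolvable (G ⧸ N) :=
    solvable_of_surjective (f := hc.symm.QuotientMulEquiv.symm.toMonoidHom) (MulEquiv.surjective _)
  exact solvable_of_ker_le_range N.subtype (QuotientGroup.mk' N)
    (by rw [QuotientGroup.ker_mk', Subgroup.range_subtype])

theorem sq_image_dihedral {m : ℕ} {C : Type*} [Group C] (hC : ∀ a b : C, a * b = b * a)
    (f : DihedralGroup m →* C) : ∀ s, f s ^ 2 = 1 := by
  have h1 : ∀ i, f (DihedralGroup.sr i) ^ 2 = 1 := fun i => by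
    rw [← map_pow, pow_two, DihedralGroup.sr_mul_self, map_one]
  intro s
  cases s with
  | r i =>
    rw [show DihedralGroup.r i = DihedralGroup.sr 0 * DihedralGroup.sr i by simp, map_mul,
      (show Commute (f (DihedralGroup.sr 0)) (f (DihedralGroup.sr i)) from hC _ _).mul_pow, h1, h1, one_mul]
  | sr i => exact h1 i

theorem sq_image_quaternion {m : ℕ} (hm : Even m) {C : Type*} [Group C] (hC : ∀ a b : C, a * b = b * a)
    (f : QuaternionGroup m →* C) : ∀ s, f s ^ 2 = 1 := by
  have ha : ∀ i, f (QuaternionGroup.a i) ^ 2 = 1 := fun i => by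
    have h : f (QuaternionGroup.xa 0) * f (QuaternionGroup.a i) =
        f (QuaternionGroup.a (-i)) * f (QuaternionGroup.xa 0) := by
      rw [← map_mul, ← map_mul]; congr 1; simp
    rw [hC] at h
    have h2 : f (QuaternionGroup.a i) = f (QuaternionGroup.a (-i)) := mul_right_cancel h
    rw [pow_two]
    nth_rw 2 [h2]
    rw [← map_mul, QuaternionGroup.a_mul_a, add_neg_cancel, QuaternionGroup.a_zero, map_one]
  intro s
  cases s with
  | a i => exact ha i
  | xa i =>
    obtain ⟨k, hk⟩ := hm
    rw [← map_pow, QuaternionGroup.xa_sq]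
    have : QuaternionGroup.a (m : ZMod (2 * m)) = (QuaternionGroup.a (k : ZMod (2 * m))) ^ 2 := by
      rw [pow_two, QuaternionGroup.a_mul_a, hk, Nat.cast_add]
    rw [this, map_pow, ha]

theorem sq_image_quasiDihedral {S : Type*} [Group S] [Finite S] (h : Cfsg.IsQuasiDihedral S) {C : Type*} [Group C]
    (hC : ∀ a b : C, a * b = b * a) (f : S →* C) : ∀ s, f s ^ 2 = 1 := by
  obtain ⟨n, hn, hcard, x, y, hx, hy, hxy⟩ := h
  have hidx : (Subgroup.zpowers x).index = 2 := by
    have h1 := Subgroup.card_mul_index (Subgroup.zpowers x)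
    rw [Nat.card_zpowers, hx, hcard, pow_succ] at h1
    exact Nat.eq_of_mul_eq_mul_left (pow_pos two_pos n) h1
  have hy2 : f y ^ 2 = 1 := by rw [← map_pow, ← hy, pow_orderOf_eq_one, map_one]
  have hexp : orderOf (f x) ∣ 2 := by
    have h1 : f x ^ (2 ^ (n - 1) - 2) = 1 := by
      have h2 := congrArg f hxy
      rw [map_mul, map_mul, map_inv, map_pow, hC (f y) (f x), mul_inv_cancel_right] at h2
      have h3 : 2 ^ (n - 1) - 1 = (2 ^ (n - 1) - 2) + 1 := by
        have : 2 ≤ 2 ^ (n - 1) := Nat.le_self_pow (by omega) 2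
        omega
      rw [h3, pow_succ] at h2
      exact mul_eq_right.1 h2.symm
    have h2 : orderOf (f x) ∣ Nat.gcd (2 ^ n) (2 ^ (n - 1) - 2) :=
      Nat.dvd_gcd (hx ▸ orderOf_map_dvd f x) (orderOf_dvd_of_pow_eq_one h1)
    refine h2.trans ?_
    obtain ⟨j, rfl⟩ : ∃ j, n = j + 3 := ⟨n - 3, by omega⟩
    have e : 2 ^ (j + 3 - 1) - 2 = 2 * (2 ^ (j + 1) - 1) := by
      rw [show j + 3 - 1 = (j + 1) + 1 from by omega, pow_succ]; omega
    rw [e, show (2 : ℕ) ^ (j + 3) = 2 * 2 ^ (j + 2) from by rw [pow_succ']]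
    rw [Nat.gcd_mul_left]
    refine dvd_of_eq ?_
    have hodd : Odd (2 ^ (j + 1) - 1) := by
      rw [Nat.odd_sub (Nat.one_le_two_pow)]
      exact ⟨fun h => absurd h (by simp [Nat.even_pow]), fun h => absurd h (by simp)⟩
    rw [((Nat.coprime_two_left.2 hodd).pow_left (j + 2)).gcd_eq_one, mul_one]
  intro s
  by_cases hyx : y ∈ Subgroup.zpowers x
  · exfalso
    obtain ⟨i, hi⟩ := Subgroup.mem_zpowers_iff.1 hyx
    have h1 : y * x * y⁻¹ = x := by rw [← hi, ((Commute.refl x).zpow_left i).eq, mul_inv_cancel_right]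
    rw [h1] at hxy
    have h2 : x ^ (2 ^ (n - 1) - 1 - 1) = 1 := by
      have h3 : 2 ^ (n - 1) - 1 = (2 ^ (n - 1) - 1 - 1) + 1 := by
        have : 2 ≤ 2 ^ (n - 1) := Nat.le_self_pow (by omega) 2
        omega
      rw [h3, pow_succ] at hxy
      exact mul_eq_right.1 hxy.symm
    have h4 := orderOf_dvd_of_pow_eq_one h2
    rw [hx] at h4
    have h5 : 4 ≤ 2 ^ (n - 1) := (show 2 ^ 2 = 4 by norm_num) ▸ Nat.pow_le_pow_right two_pos (by omega)
    have h6 := Nat.le_of_dvd (by omega) h4
    have h7 : 2 ^ (n - 1) < 2 ^ n := Nat.pow_lt_pow_right (by norm_num) (by omega)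
    omega
  · have hs : s ∈ Subgroup.zpowers x ∨ s * y⁻¹ ∈ Subgroup.zpowers x := by
      by_cases hs : s ∈ Subgroup.zpowers x
      · exact Or.inl hs
      · right
        rw [Subgroup.mul_mem_iff_of_index_two hidx]
        exact ⟨fun h => absurd h hs, fun h => absurd ((Subgroup.zpowers x).inv_mem h) (by simpa using hyx)⟩
    have hz : ∀ i : ℤ, f (x ^ i) ^ 2 = 1 := fun i => by
      rw [map_zpow, ← zpow_natCast, ← zpow_mul, mul_comm, zpow_mul, zpow_natCast,
        orderOf_dvd_iff_pow_eq_one.1 hexp, one_zpow]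
    rcases hs with h | h
    · obtain ⟨i, rfl⟩ := Subgroup.mem_zpowers_iff.1 h
      exact hz i
    · obtain ⟨i, hi⟩ := Subgroup.mem_zpowers_iff.1 h
      rw [show s = x ^ i * y by rw [hi, inv_mul_cancel_right], map_mul,
        (show Commute (f (x ^ i)) (f y) from hC _ _).mul_pow, hz, hy2, one_mul]

/-- The solvability criterion. -/
theorem isSolvable_of_cyclic_by_cyclic_sylow {G : Type u} [Group G] [Finite G]
    (hFT : ∀ (K : Type u) [Group K] [Finite K], Odd (Nat.card K) → Group.IsSolvable K)
    (S : Sylow 2 G) (N : Subgroup ↥(S : Subgroup G)) [hN : N.Normal] (hNc : IsCyclic N)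
    (hQc : IsCyclic (↥(S : Subgroup G) ⧸ N)) (hQ : 2 < Nat.card (↥(S : Subgroup G) ⧸ N)) :
    Group.IsSolvable G := by
  haveI : Fact (Nat.Prime 2) := ⟨Nat.prime_two⟩
  haveI := hNc
  haveI := hQc
  have hdvd : 2 ∣ Nat.card G := by
    obtain ⟨k, hk⟩ := IsPGroup.iff_card.1 S.isPGroup'
    have h1 : Nat.card (↥(S : Subgroup G) ⧸ N) ∣ Nat.card (S : Subgroup G) := Subgroup.card_quotient_dvd_card N
    rcases k with _ | k
    · rw [hk, pow_zero, Nat.dvd_one] at h1; omega
    · exact (hk ▸ dvd_pow_self 2 k.succ_ne_zero : 2 ∣ Nat.card (S : Subgroup G)).trans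
        (S : Subgroup G).card_subgroup_dvd_card
  by_cases hcyc : IsCyclic (S : Subgroup G)
  · have hmin : (Nat.card G).minFac = 2 := (Nat.minFac_eq_two_iff _).2 hdvd
    have hc := IsCyclic.isComplement' (P := S) hmin hcyc
    exact isSolvable_of_two_complement hFT ⟨S, _, inferInstance, hc⟩
  have hsq : (∀ f : ↥(S : Subgroup G) →* ↥(S : Subgroup G) ⧸ N, ∀ s, f s ^ 2 = 1) → False := by
    intro h
    obtain ⟨g, hg⟩ := IsCyclic.exists_generator (α := ↥(S : Subgroup G) ⧸ N)
    obtain ⟨s, rfl⟩ := QuotientGroup.mk'_surjective N g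
    have h1 := orderOf_dvd_of_pow_eq_one (h (QuotientGroup.mk' N) s)
    rw [orderOf_eq_card_of_forall_mem_zpowers hg] at h1
    exact absurd (Nat.le_of_dvd two_pos h1) (by omega)
  have hQcomm : ∀ a b : ↥(S : Subgroup G) ⧸ N, a * b = b * a := fun a b => by
    obtain ⟨g, hg⟩ := IsCyclic.exists_generator (α := ↥(S : Subgroup G) ⧸ N)
    obtain ⟨i, rfl⟩ := Subgroup.mem_zpowers_iff.1 (hg a)
    obtain ⟨j, rfl⟩ := Subgroup.mem_zpowers_iff.1 (hg b)
    exact ((Commute.refl g).zpow_zpow i j).eq
  by_cases hd : ∃ m : ℕ, Nonempty (↥(S : Subgroup G) ≃* DihedralGroup m)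
  · obtain ⟨m, ⟨e⟩⟩ := hd
    exact (hsq fun f s => by
      simpa using sq_image_dihedral hQcomm (f.comp e.symm.toMonoidHom) (e s)).elim
  by_cases hq : ∃ m : ℕ, Nonempty (↥(S : Subgroup G) ≃* QuaternionGroup m)
  · obtain ⟨m, ⟨e⟩⟩ := hq
    haveI : Finite (QuaternionGroup m) := Finite.of_equiv _ e.toEquiv
    have hord : 2 * m ∣ Nat.card (S : Subgroup G) := by
      rw [Nat.card_congr e.toEquiv, ← QuaternionGroup.orderOf_a_one]
      exact _root_.orderOf_dvd_natCard _
    obtain ⟨k, hk⟩ := IsPGroup.iff_card.1 S.isPGroup'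
    rw [hk] at hord
    obtain ⟨i, -, hi⟩ := (Nat.dvd_prime_pow Nat.prime_two).1 hord
    by_cases hm : Even m
    · exact (hsq fun f s => by
        simpa using sq_image_quaternion hm hQcomm (f.comp e.symm.toMonoidHom) (e s)).elim
    · have hm1 : m = 1 := by
        rcases i with _ | i
        · rw [pow_zero] at hi; omega
        · rw [pow_succ'] at hi
          have h2 : m = 2 ^ i := Nat.eq_of_mul_eq_mul_left two_pos hi
          rcases i with _ | i
          · simpa using h2
          · exact absurd (by rw [h2, pow_succ']; exact even_two_mul _) hm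
      subst hm1
      haveI : IsCyclic (QuaternionGroup 1) :=
        isCyclic_of_orderOf_eq_card (QuaternionGroup.xa 0)
          (by rw [QuaternionGroup.orderOf_xa, Nat.card_eq_fintype_card, QuaternionGroup.card])
      exact absurd (isCyclic_of_surjective e.symm e.symm.surjective) hcyc
  by_cases hsd : Cfsg.IsQuasiDihedral ↥(S : Subgroup G)
  · exact (hsq fun f s => sq_image_quasiDihedral hsd hQcomm f s).elim
  by_cases hh : ∃ n k : ℕ, Nonempty (↥(S : Subgroup G) ≃* Multiplicative (Fin k → ZMod (2 ^ n)))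
  · obtain ⟨n, k, ⟨e⟩⟩ := hh
    rcases n with _ | n
    · refine absurd ?_ hcyc
      haveI : Subsingleton (Multiplicative (Fin k → ZMod (2 ^ 0))) :=
        ⟨fun a b => Multiplicative.toAdd.injective (funext fun i => by
          haveI : Subsingleton (ZMod (2 ^ 0)) := by rw [pow_zero]; infer_instance
          exact Subsingleton.elim _ _)⟩
      haveI : Subsingleton ↥(S : Subgroup G) := e.toEquiv.subsingleton
      infer_instance
    haveI : NeZero (2 ^ (n + 1)) := ⟨(pow_pos two_pos _).ne'⟩
    -- at most two factors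
    have hk2 : k ≤ 2 := by
      let red : Multiplicative (Fin k → ZMod (2 ^ (n + 1))) →* Multiplicative (Fin k → ZMod 2) :=
        AddMonoidHom.toMultiplicative
          ((ZMod.castHom (dvd_pow_self 2 n.succ_ne_zero) (ZMod 2)).toAddMonoidHom.compLeft (Fin k))
      have hred : Function.Surjective red := fun b => by
        choose c hc using fun i =>
          ZMod.castHom_surjective (dvd_pow_self 2 n.succ_ne_zero) (Multiplicative.toAdd b i)
        exact ⟨Multiplicative.ofAdd c, Multiplicative.toAdd.injective (funext hc)⟩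
      let π : ↥(S : Subgroup G) →* Multiplicative (Fin k → ZMod 2) := red.comp e.toMonoidHom
      have hπ : Function.Surjective π := hred.comp e.surjective
      have hcard : Nat.card (Multiplicative (Fin k → ZMod 2)) = 2 ^ k := by
        rw [Nat.card_congr Multiplicative.toAdd, Nat.card_fun, Nat.card_zmod, Nat.card_fin]
      have hexp : ∀ b : Multiplicative (Fin k → ZMod 2), b ^ 2 = 1 := fun b =>
        Multiplicative.toAdd.injective (funext fun i => by
          rw [toAdd_pow, toAdd_one, Pi.smul_apply, Pi.zero_apply, nsmul_eq_mul]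
          rw [show ((2 : ℕ) : ZMod 2) = 0 from ZMod.natCast_self 2, zero_mul])
      have hN2 : Nat.card (N.map π) ≤ 2 := by
        haveI : IsCyclic (N.map π) := isCyclic_of_surjective (π.subgroupMap N) (π.subgroupMap_surjective N)
        obtain ⟨g, hg⟩ := IsCyclic.exists_generator (α := ↥(N.map π))
        rw [← orderOf_eq_card_of_forall_mem_zpowers hg]
        exact Nat.le_of_dvd two_pos (orderOf_dvd_of_pow_eq_one (Subtype.ext (by simpa using hexp g)))
      have hidx : (N.map π).index ≤ 2 := by
        rw [Subgroup.index_eq_card]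
        let q : ↥(S : Subgroup G) ⧸ N →* Multiplicative (Fin k → ZMod 2) ⧸ N.map π :=
          QuotientGroup.map N (N.map π) π (Subgroup.le_comap_map π N)
        have hq : Function.Surjective q := by
          intro y
          obtain ⟨z, rfl⟩ := QuotientGroup.mk'_surjective _ y
          obtain ⟨s, rfl⟩ := hπ z
          exact ⟨QuotientGroup.mk' N s, rfl⟩
        haveI : IsCyclic (Multiplicative (Fin k → ZMod 2) ⧸ N.map π) := isCyclic_of_surjective q hq
        obtain ⟨g, hg⟩ := IsCyclic.exists_generator (α := Multiplicative (Fin k → ZMod 2) ⧸ N.map π)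
        rw [← orderOf_eq_card_of_forall_mem_zpowers hg]
        refine Nat.le_of_dvd two_pos (orderOf_dvd_of_pow_eq_one ?_)
        obtain ⟨z, rfl⟩ := QuotientGroup.mk'_surjective _ g
        rw [← map_pow, hexp, map_one]
      have h4 : 2 ^ k ≤ 2 ^ 2 := by
        rw [← hcard, ← Subgroup.card_mul_index (N.map π)]
        calc _ ≤ 2 * 2 := Nat.mul_le_mul hN2 hidx
          _ = 2 ^ 2 := by norm_num
      exact (Nat.pow_le_pow_iff_right (by norm_num)).1 h4
    interval_cases k
    · refine absurd ?_ hcyc
      haveI : Subsingleton ↥(S : Subgroup G) := e.toEquiv.subsingleton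
      infer_instance
    · refine absurd ?_ hcyc
      let u : Multiplicative (ZMod (2 ^ (n + 1))) ≃* Multiplicative (Fin 1 → ZMod (2 ^ (n + 1))) :=
        AddEquiv.toMultiplicative
          { toFun := fun a _ => a
            invFun := fun a => a 0
            left_inv := fun a => rfl
            right_inv := fun a => funext fun i => by rw [Subsingleton.elim i 0]
            map_add' := fun a b => rfl }
      exact isCyclic_of_surjective (u.trans e.symm) (u.trans e.symm).surjective
    · rcases n with _ | n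
      · -- exponent two and order four: the quotient has order at most two
        refine (hsq fun f s => ?_).elim
        rw [← map_pow, show s ^ 2 = 1 from e.injective (by
          rw [map_pow, map_one]
          exact Multiplicative.toAdd.injective (funext fun i => by
            rw [toAdd_pow, toAdd_one, Pi.smul_apply, Pi.zero_apply, nsmul_eq_mul]
            rw [show ((2 : ℕ) : ZMod (2 ^ (0 + 1))) = 0 from ZMod.natCast_self 2, zero_mul])), map_one]
      -- homocyclic of exponent at least four
      set O := Cfsg.pPrimeCore 2 G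
      haveI : O.Normal := Cfsg.Agent.Grp.pPrimeCore_isNormal
      have hOodd : Odd (Nat.card O) := Nat.coprime_two_right.mp Cfsg.Agent.Grp.pPrimeCore_coprime
      let T : Sylow 2 (G ⧸ O) := S.mapSurjective (QuotientGroup.mk'_surjective O)
      have hT : (T : Subgroup (G ⧸ O)) = (S : Subgroup G).map (QuotientGroup.mk' O) := Sylow.coe_mapSurjective _ _
      let φ : ↥(S : Subgroup G) →* ↥(T : Subgroup (G ⧸ O)) :=
        ((QuotientGroup.mk' O).comp (S : Subgroup G).subtype).codRestrict _ fun s => hT ▸ ⟨s, s.2, rfl⟩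
      have hφ : Function.Bijective φ := by
        refine ⟨(injective_iff_map_eq_one φ).2 fun s hs => Subtype.ext ?_, fun ⟨y, hy⟩ => ?_⟩
        · have h1 : (s : G) ∈ O := (QuotientGroup.eq_one_iff _).1 (congrArg Subtype.val hs)
          obtain ⟨j, hj⟩ := (IsPGroup.iff_orderOf.1 S.isPGroup') s
          rw [Subgroup.coe_one, ← orderOf_eq_one_iff]
          exact Nat.eq_one_of_dvd_coprimes ((Nat.coprime_two_left.2 hOodd).pow_left j)
            (hj ▸ (Subgroup.orderOf_coe s).dvd) (Subgroup.orderOf_dvd_natCard _ h1)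
        · rw [hT] at hy
          obtain ⟨s, hs, hsy⟩ := hy
          exact ⟨⟨s, hs⟩, Subtype.ext hsy⟩
      let eT : ↥(T : Subgroup (G ⧸ O)) ≃* Multiplicative (ZMod (2 ^ (n + 1 + 1)) × ZMod (2 ^ (n + 1 + 1))) :=
        ((MulEquiv.ofBijective φ hφ).symm.trans e).trans (AddEquiv.toMultiplicative
          { toFun := fun a => (a 0, a 1)
            invFun := fun a => ![a.1, a.2]
            left_inv := fun a => funext fun i => by fin_cases i <;> rfl
            right_inv := fun a => rfl
            map_add' := fun a b => rfl })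
      obtain ⟨hTn, -, -⟩ := Cfsg.Agent.S0949.result T (n + 1 + 1) (by omega) eT fun K hK hodd => by
        haveI := hK
        have h1 : K.comap (QuotientGroup.mk' O) ≤ O := by
          refine Cfsg.Agent.Grp.le_pPrimeCore inferInstance (Nat.coprime_two_right.mpr ?_)
          rw [← Subgroup.card_mul_index (O.subgroupOf (K.comap (QuotientGroup.mk' O)))]
          refine Odd.mul ?_ ?_
          · rw [Nat.card_congr (Subgroup.subgroupOfEquivOfLe (fun x hx => ?_)).toEquiv]
            · exact hOodd
            · rw [Subgroup.mem_comap, show QuotientGroup.mk' O x = 1 from (QuotientGroup.eq_one_iff x).2 hx]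
              exact one_mem K
          · refine hodd.of_dvd_nat ?_
            have hker : ((QuotientGroup.mk' O).subgroupComap K).ker =
                O.subgroupOf (K.comap (QuotientGroup.mk' O)) := by
              ext ⟨z, hz⟩
              rw [MonoidHom.mem_ker, Subgroup.mem_subgroupOf, ← QuotientGroup.eq_one_iff]
              exact Subtype.ext_iff
            rw [← hker, Subgroup.index_ker]
            exact Subgroup.card_subgroup_dvd_card _
        rw [eq_bot_iff, ← QuotientGroup.map_mk'_self O,
          ← Subgroup.map_comap_eq_self_of_surjective (QuotientGroup.mk'_surjective O) K]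
        exact Subgroup.map_mono h1
      haveI := hTn
      haveI : Group.IsSolvable O := hFT O hOodd
      haveI : Group.IsNilpotent (T : Subgroup (G ⧸ O)) := T.isPGroup'.isNilpotent
      haveI : Group.IsSolvable ((G ⧸ O) ⧸ (T : Subgroup (G ⧸ O))) :=
        hFT _ (by rw [← Subgroup.index_eq_card]; exact Nat.odd_iff.2 (Nat.two_dvd_ne_zero.1 T.not_dvd_index))
      haveI : Group.IsSolvable (G ⧸ O) :=
        solvable_of_ker_le_range (T : Subgroup (G ⧸ O)).subtype (QuotientGroup.mk' (T : Subgroup (G ⧸ O)))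
          (by rw [QuotientGroup.ker_mk', Subgroup.range_subtype])
      exact solvable_of_ker_le_range O.subtype (QuotientGroup.mk' O)
        (by rw [QuotientGroup.ker_mk', Subgroup.range_subtype])
  refine isSolvable_of_two_complement hFT (Cfsg.Agent.Transfer.hasNormalPComplement_of_control S fun x hx y hy ⟨g, hg⟩ => ?_)
  have hinner := Cfsg.Agent.S5212.result S.isPGroup' _ (Cfsg.Agent.Fus.isSaturated_group S)
    ⟨N, hN, hNc, hQc⟩ hh hd hq hsd (Subgroup.zpowers x)
  let φ : ↥(Subgroup.zpowers x) →* G :=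
    (MulAut.conj g).toMonoidHom.comp (Subgroup.zpowers x).subtype
  have hmem : φ ∈ (Cfsg.groupFusionSystem (S : Subgroup G)).Hom (Subgroup.zpowers x) := by
    refine ⟨Subgroup.zpowers_le.2 hx, fun z => ?_, g, fun z => by simp [φ]⟩
    have hle : (Subgroup.zpowers x).map (MulAut.conj g).toMonoidHom ≤ (S : Subgroup G) := by
      rw [MonoidHom.map_zpowers, Subgroup.zpowers_le, MulEquiv.coe_toMonoidHom, MulAut.conj_apply, hg]
      exact hy
    exact hle ⟨z, z.2, rfl⟩
  rw [hinner] at hmem
  obtain ⟨-, s, hs, hsφ⟩ := hmem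
  exact ⟨s, hs, by rw [← hg]; exact (hsφ ⟨x, Subgroup.mem_zpowers x⟩).symm⟩

end Cfsg.Agent.OddUse
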