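import Cfsg.Agent.Lib.Grp.AutSylow

/-!
# Automorphisms centralizing a Sylow 2-subgroup

A variant of `eq_one_of_perfect_le_centralizer_sylow`: only the acting group has to meet the
centralizer of `E` trivially.
-/

set_option autoImplicit false

namespace Cfsg.Agent.OddUse

open scoped Pointwise commutatorElement
open Subgroup Cfsg.Agent.Grp

variable {G : Type*} [Group G] [Finite G]

/-- A Sylow 2-subgroup of a group centralizing a Sylow 2-subgroup of `E` and acting faithfully on `E`
is central in its normalizer, when `O(E) = 1`. -/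
theorem normalizer_le_centralizer_of_fixes_sylow {C : Type*} [Group C] [Finite C] (ι : C →* G)
    (hinj : Function.Injective ι) {E P : Subgroup G} [E.Normal]
    (hPE : P ≤ E) (hP : IsPGroup 2 P) (hidx : ¬ 2 ∣ P.relIndex E)
    (hO : Cfsg.pPrimeCore 2 E = ⊥) (hι : ∀ c, ι c ∈ Subgroup.centralizer (P : Set G))
    (hcent : ∀ c, ι c ∈ Subgroup.centralizer (E : Set G) → c = 1) (W : Sylow 2 C) :
    Subgroup.normalizer ((W : Subgroup C) : Set C) ≤ Subgroup.centralizer ((W : Subgroup C) : Set C) := by
  have := Fact.mk Nat.prime_two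
  -- no nontrivial involution fixes fusion
  have key : ∀ c : C, orderOf (ι c) = 2 → FixesFusion E P (ι c) → False := by
    intro c hu hfix
    set u := ι c with hudef
    have huC : u ∈ Subgroup.centralizer (P : Set G) := hι c
    set H := E ⊔ Subgroup.zpowers u with hH
    have hPH : P ≤ H := hPE.trans le_sup_left
    have huH : u ∈ H := Subgroup.mem_sup_right (Subgroup.mem_zpowers u)
    have hEn : (E.subgroupOf H).Normal := inferInstance
    have hiso : Cfsg.IsIsolatedInvolution (⟨u, huH⟩ : H) := by
      refine isIsolated_of_fixesFusion (E := E.subgroupOf H) (P := P.subgroupOf H)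
        (fun y hy => hPE hy) hP.comap_subtype ?_ ?_ ?_ ?_ ?_
      · rwa [Subgroup.relIndex_subgroupOf le_sup_left]
      · rwa [Subgroup.orderOf_mk]
      · exact Subgroup.mem_centralizer_iff.mpr fun p' hp' =>
          Subtype.ext (Subgroup.mem_centralizer_iff.mp huC _ hp')
      · intro Pi hPi φ hφE hφ hid
        have hC : (E.subgroupOf H ⊓ Subgroup.centralizer (Pi : Set H)).map H.subtype =
            E ⊓ Subgroup.centralizer ((Pi.map H.subtype : Subgroup G) : Set G) := by
          ext z
          constructor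
          · rintro ⟨z, hz, rfl⟩
            refine ⟨hz.1, Subgroup.mem_centralizer_iff.mpr ?_⟩
            rintro _ ⟨a, ha, rfl⟩
            exact congrArg Subtype.val (Subgroup.mem_centralizer_iff.mp hz.2 a ha)
          · rintro ⟨hzE, hzC⟩
            exact ⟨⟨z, (le_sup_left : E ≤ H) hzE⟩, ⟨hzE, Subgroup.mem_centralizer_iff.mpr fun a ha =>
              Subtype.ext (Subgroup.mem_centralizer_iff.mp hzC a ⟨a, ha, rfl⟩)⟩, rfl⟩
        have h1 := hfix (Pi.map H.subtype) (by rintro _ ⟨a, ha, rfl⟩; exact hPi ha) φ hφE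
          (Subgroup.le_normalizer_map H.subtype ⟨φ, hφ, rfl⟩) (by
            rwa [← hC, Subgroup.relIndex_map_map_of_injective _ _ H.subtype_injective])
        rw [← hC, oddCard, Subgroup.card_map_of_injective H.subtype_injective] at h1
        exact Subtype.ext h1
      · refine Subgroup.map_injective H.subtype_injective ?_
        rw [Subgroup.map_sup, MonoidHom.map_zpowers, Subgroup.subgroupOf_map_subtype,
          inf_of_le_left le_sup_left, ← MonoidHom.range_eq_map, Subgroup.range_subtype]
        rfl
    obtain ⟨N, hN, hodd, hcomm⟩ := ZStar.exists_odd_normal hiso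
    have hNE : N ≤ E.subgroupOf H := by
      intro m hm
      obtain ⟨a, ha, b, hb, hab⟩ := Subgroup.mem_sup_of_normal_left.mp m.2
      have hbE : b ∈ E := by
        obtain ⟨j, rfl⟩ := hb
        set q := QuotientGroup.mk' E
        have h1 : orderOf (q (m : G)) ∣ 2 := by
          rw [← hab, map_mul, show q a = 1 from (QuotientGroup.eq_one_iff a).mpr ha, one_mul, map_zpow]
          refine (orderOf_dvd_of_mem_zpowers ⟨j, rfl⟩).trans ?_
          exact hu ▸ orderOf_map_dvd q u
        have h2 : orderOf (q (m : G)) ∣ Nat.card N := (orderOf_map_dvd q _).trans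
          (by rw [Subgroup.orderOf_coe]; exact Subgroup.orderOf_dvd_natCard N hm)
        have h3 : q (m : G) = 1 := orderOf_eq_one_iff.mp
          (Nat.eq_one_of_dvd_coprimes hodd.coprime_two_left h1 h2)
        rw [← hab, map_mul, show q a = 1 from (QuotientGroup.eq_one_iff a).mpr ha, one_mul] at h3
        exact (QuotientGroup.eq_one_iff _).mp h3
      show (m : G) ∈ E
      rw [← hab]
      exact E.mul_mem ha hbE
    have hN1 : N = ⊥ := by
      set e := Subgroup.subgroupOfEquivOfLe (le_sup_left : E ≤ H)
      have h1 : (N.subgroupOf (E.subgroupOf H)).map e.toMonoidHom ≤ ⊥ := by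
        rw [← hO]
        refine le_pPrimeCore (hN.subgroupOf _ |>.map _ e.surjective) ?_
        rw [Subgroup.card_map_of_injective (MulEquiv.injective _),
          Nat.card_congr (Subgroup.subgroupOfEquivOfLe hNE).toEquiv]
        exact Nat.coprime_two_right.mpr hodd
      rw [le_bot_iff, Subgroup.map_eq_bot_iff_of_injective _ (MulEquiv.injective _),
        Subgroup.subgroupOf_eq_bot] at h1
      exact le_bot_iff.mp ((le_inf le_rfl hNE).trans (disjoint_iff.mp h1).le)
    have huE : u ∈ Subgroup.centralizer (E : Set G) := Subgroup.mem_centralizer_iff.mpr fun z hz => by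
      have := hcomm ⟨z, Subgroup.mem_sup_left hz⟩
      rw [hN1, Subgroup.mem_bot] at this
      have h2 : u * z * u⁻¹ * z⁻¹ = 1 := congrArg Subtype.val this
      rw [mul_inv_eq_one, mul_inv_eq_iff_eq_mul] at h2
      exact h2.symm
    rw [hudef, hcent c huE, map_one, orderOf_one] at hu
    omega
  intro a ha
  refine Subgroup.mem_centralizer_iff.mpr fun w hw => ?_
  by_contra hne
  set v : C := w⁻¹ * (a * w * a⁻¹) with hv
  have hvW : v ∈ (W : Subgroup C) :=
    Subgroup.mul_mem _ (Subgroup.inv_mem _ hw) ((Subgroup.mem_normalizer_iff.mp ha w).mp hw)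
  have hv1 : v ≠ 1 := fun h => hne (by
    have h' : a * w * a⁻¹ = w := (inv_mul_eq_one.mp h).symm
    exact (mul_inv_eq_iff_eq_mul.mp h').symm)
  obtain ⟨j, hj⟩ := IsPGroup.iff_orderOf.mp W.isPGroup' ⟨v, hvW⟩
  rw [Subgroup.orderOf_mk] at hj
  obtain ⟨i, rfl⟩ : ∃ i, j = i + 1 := Nat.exists_eq_succ_of_ne_zero fun h => hv1 (by
    rwa [h, pow_zero, orderOf_eq_one_iff] at hj)
  refine key (v ^ 2 ^ i) ?_ ?_
  · rw [orderOf_injective ι hinj, orderOf_pow' _ (pow_pos two_pos i).ne', hj,
      Nat.gcd_eq_right ⟨2, pow_succ 2 i⟩, pow_succ, Nat.mul_div_cancel_left _ (pow_pos two_pos i)]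
  · have h := fixesFusion_commutator (E := E) (P := P) (hι w) (hι a) (2 ^ i)
    rwa [← map_inv ι w, ← map_inv ι a, ← map_mul, ← map_mul, ← map_mul, ← map_pow] at h

/-- Glauberman's theorem on the automorphisms fixing a Sylow 2-subgroup pointwise. -/
theorem autCentralizer_sylow_two (hO : ∀ N : Subgroup G, N.Normal → Odd (Nat.card N) → N = ⊥)
    (S : Sylow 2 G) (C : Subgroup (MulAut G)) (hC : ∀ φ : MulAut G, φ ∈ C ↔ ∀ s : G, s ∈ S → φ s = s) :
    ∀ T : Sylow 2 ↥C, (∀ a b : ↥T, a * b = b * a) ∧
      ∃ N : Subgroup ↥C, N.Normal ∧ Subgroup.IsComplement' N (T : Subgroup ↥C) ∧ Odd (Nat.card N) := by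
  intro T
  have := Fact.mk Nat.prime_two
  haveI : Finite (MulAut G) := Finite.of_injective (fun φ => (φ : G → G)) DFunLike.coe_injective
  haveI : Finite (G ⋊[MonoidHom.id (MulAut G)] MulAut G) := Finite.of_equiv _ SemidirectProduct.equivProd.symm
  let il : G →* G ⋊[MonoidHom.id (MulAut G)] MulAut G := SemidirectProduct.inl
  let ι : ↥C →* G ⋊[MonoidHom.id (MulAut G)] MulAut G := SemidirectProduct.inr.comp C.subtype
  have hcm : ∀ (φ : MulAut G) (g : G), (SemidirectProduct.inr φ : G ⋊[MonoidHom.id (MulAut G)] MulAut G) * il g =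
      il (φ g) * SemidirectProduct.inr φ := fun φ g => by
    ext <;> simp [il]
  have hil : Function.Injective il := SemidirectProduct.inl_injective
  haveI hEn : il.range.Normal := by
    rw [SemidirectProduct.range_inl_eq_ker_rightHom]
    infer_instance
  have h := normalizer_le_centralizer_of_fixes_sylow ι
    (SemidirectProduct.inr_injective.comp Subtype.val_injective)
    (E := il.range) (P := (S : Subgroup G).map il) (Subgroup.map_le_range il _) (S.isPGroup'.map il) ?_ ?_ ?_ ?_ T
  · refine ⟨fun a b => Subtype.ext (Subgroup.mem_centralizer_iff.mp (h (Subgroup.le_normalizer b.2)) a a.2),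
      (MonoidHom.transferSylow T h).ker, inferInstance, MonoidHom.ker_transferSylow_isComplement' T h, ?_⟩
    have h' := MonoidHom.ker_transferSylow_isComplement' T h
    rw [← h'.index_eq_card]
    exact Nat.odd_iff.2 (Nat.two_dvd_ne_zero.1 T.not_dvd_index)
  · rw [MonoidHom.range_eq_map, Subgroup.relIndex_map_map_of_injective _ _ hil, Subgroup.relIndex_top_right]
    exact S.not_dvd_index
  · have e := MonoidHom.ofInjective hil
    rw [eq_bot_iff]
    intro x hx
    have hn := hO ((Cfsg.pPrimeCore 2 il.range).map e.symm.toMonoidHom)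
      (Subgroup.Normal.map pPrimeCore_isNormal _ e.symm.surjective) (by
      rw [Subgroup.card_map_of_injective e.symm.injective]
      exact Nat.coprime_two_right.mp pPrimeCore_coprime)
    have hx' : e.symm x ∈ (Cfsg.pPrimeCore 2 il.range).map e.symm.toMonoidHom := ⟨x, hx, rfl⟩
    rw [hn, Subgroup.mem_bot, MulEquiv.map_eq_one_iff] at hx'
    rw [Subgroup.mem_bot, hx']
  · intro c
    rw [Subgroup.mem_centralizer_iff]
    rintro _ ⟨s, hs, rfl⟩
    show il s * SemidirectProduct.inr (c : MulAut G) = SemidirectProduct.inr (c : MulAut G) * il s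
    rw [hcm, (hC c).1 c.2 s hs]
  · intro c hc
    refine Subtype.ext (MulEquiv.ext fun g => ?_)
    have h1 := Subgroup.mem_centralizer_iff.mp hc (il g) ⟨g, rfl⟩
    change il g * SemidirectProduct.inr (c : MulAut G) = SemidirectProduct.inr (c : MulAut G) * il g at h1
    rw [hcm] at h1
    exact (hil (mul_right_cancel h1)).symm

end Cfsg.Agent.OddUse
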