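import Cfsg.Agent.S4381
import Cfsg.Agent.S0117
import Cfsg.Agent.Lib.Invol.ZJFunctor
import Cfsg.Agent.Lib.Grp.FpfPrime
import Cfsg.Agent.Lib.Char.StarConstruction

/-!
# Coprime action with nilpotent proper invariant subgroups

Solvability in odd order is an explicit argument.
-/

set_option autoImplicit false
set_option maxHeartbeats 1000000

namespace Cfsg.Agent.OddUse

open Subgroup
open scoped commutatorElement

universe u

variable {A : Type*} [Group A] [Finite A]

/-- The normalizer of an invariant subgroup is invariant. -/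
theorem normalizer_invariant {G : Type*} [Group G] [MulDistribMulAction A G] {K : Subgroup G}
    (hK : ∀ a : A, ∀ x ∈ K, a • x ∈ K) :
    ∀ a : A, ∀ x ∈ Subgroup.normalizer (K : Set G), a • x ∈ Subgroup.normalizer (K : Set G) := by
  intro a x hx
  rw [Subgroup.mem_normalizer_iff] at hx ⊢
  intro h
  have e : a⁻¹ • ((a • x) * h * (a • x)⁻¹) = x * (a⁻¹ • h) * x⁻¹ := by
    simp only [smul_mul', smul_inv', inv_smul_smul]
  constructor
  · intro hh
    have := hK a _ ((hx (a⁻¹ • h)).1 (hK a⁻¹ h hh))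
    rwa [← e, smul_inv_smul] at this
  · intro hh
    have := hK a _ ((hx (a⁻¹ • h)).2 (e ▸ hK a⁻¹ _ hh))
    rwa [smul_inv_smul] at this

/-- The image of an invariant subgroup under the action is the subgroup itself. -/
theorem map_invariant {G : Type*} [Group G] [MulDistribMulAction A G] {K : Subgroup G}
    (hK : ∀ a : A, ∀ x ∈ K, a • x ∈ K) (a : A) :
    K.map (MulDistribMulAction.toMulAut A G a).toMonoidHom = K := by
  ext x
  constructor
  · rintro ⟨y, hy, rfl⟩
    exact hK a y hy
  · intro hx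
    exact ⟨a⁻¹ • x, hK a⁻¹ x hx, smul_inv_smul a x⟩

/-- A group whose proper invariant subgroups are nilpotent is solvable, for coprime action. -/
theorem isSolvable_of_proper_nilpotent
    (hFT : ∀ (H : Type u) [Group H] [Finite H], Odd (Nat.card H) → Group.IsSolvable H)
    (hA : Odd (Nat.card A) → Group.IsSolvable A) :
    ∀ (n : ℕ) (G : Type u) [Group G] [Finite G] [MulDistribMulAction A G], Nat.card G = n →
      (Nat.card A).Coprime (Nat.card G) →
      (∀ H : Subgroup G, H ≠ ⊤ → (∀ a : A, ∀ x ∈ H, a • x ∈ H) → Group.IsNilpotent H) →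
      Group.IsSolvable G := by
  intro n
  induction n using Nat.strong_induction_on with
  | _ n IH =>
  intro G _ _ _ hn hcop hnil
  rcases Nat.even_or_odd (Nat.card G) with heven | hodd
  swap
  · exact hFT G hodd
  have hAodd : Odd (Nat.card A) := (Nat.even_or_odd _).resolve_left fun h => by
    have := Nat.eq_one_of_dvd_coprimes hcop h.two_dvd heven.two_dvd
    omega
  by_cases hN : ∃ K : Subgroup G, K.Normal ∧ K ≠ ⊥ ∧ K ≠ ⊤ ∧ ∀ a : A, ∀ x ∈ K, a • x ∈ K
  · obtain ⟨K, hKn, hK0, hK1, hKA⟩ := hN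
    haveI := hKn
    haveI : Group.IsNilpotent K := hnil K hK1 hKA
    haveI : Group.IsSolvable K := inferInstance
    let ψ : A →* MulAut (G ⧸ K) :=
      { toFun := fun a => QuotientGroup.congr K K (MulDistribMulAction.toMulAut A G a) (map_invariant hKA a)
        map_one' := by
          ext x
          induction x using QuotientGroup.induction_on with
          | _ g => exact congrArg (QuotientGroup.mk (s := K)) (one_smul A g)
        map_mul' := fun a b => by
          ext x
          induction x using QuotientGroup.induction_on with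
          | _ g => exact congrArg (QuotientGroup.mk (s := K)) (mul_smul a b g) }
    letI : MulDistribMulAction A (G ⧸ K) := MulDistribMulAction.compHom (G ⧸ K) ψ
    have hsm : ∀ (a : A) (g : G), a • (g : G ⧸ K) = ((a • g : G) : G ⧸ K) := fun a g => rfl
    have hlt : Nat.card (G ⧸ K) < Nat.card G := by
      rw [Subgroup.card_eq_card_quotient_mul_card_subgroup K]
      have h2 : 1 < Nat.card K := (Subgroup.one_lt_card_iff_ne_bot K).2 hK0
      exact lt_mul_of_one_lt_right Nat.card_pos h2
    haveI : Group.IsSolvable (G ⧸ K) := by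
      refine IH _ (hn ▸ hlt) (G ⧸ K) rfl
        (hcop.coprime_dvd_right (Subgroup.card_quotient_dvd_card K)) fun H hH hHA => ?_
      have hp := hnil (H.comap (QuotientGroup.mk' K))
        (fun h => hH (by rw [← Subgroup.map_comap_eq_self_of_surjective (QuotientGroup.mk'_surjective K) H, h,
          Subgroup.map_top_of_surjective _ (QuotientGroup.mk'_surjective K)]))
        fun a x hx => by
          rw [Subgroup.mem_comap, QuotientGroup.mk'_apply] at hx ⊢
          rw [← hsm]
          exact hHA a _ hx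
      haveI := hp
      exact Group.nilpotent_of_surjective ((QuotientGroup.mk' K).subgroupComap H)
        (MonoidHom.subgroupComap_surjective_of_surjective _ H (QuotientGroup.mk'_surjective K))
    exact solvable_of_ker_le_range K.subtype (QuotientGroup.mk' K)
      (by rw [QuotientGroup.ker_mk', Subgroup.range_subtype])
  push Not at hN
  by_cases hp : ∃ p : ℕ, p.Prime ∧ p ≠ 2 ∧ p ∣ Nat.card G
  swap
  · push Not at hp
    have h2 : IsPGroup 2 G := by
      rw [IsPGroup.iff_card]
      exact ⟨_, Nat.eq_prime_pow_of_unique_prime_dvd Nat.card_pos.ne' fun {q} hq hd =>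
        by_contra fun h => hp q hq h hd⟩
    haveI : Fact (Nat.Prime 2) := ⟨Nat.prime_two⟩
    haveI := h2.isNilpotent
    infer_instance
  obtain ⟨p, hp, hp2, hpG⟩ := hp
  haveI := Fact.mk hp
  obtain ⟨S, hSA, ⟨i, hi⟩, hSi⟩ := Cfsg.Agent.S4381.exists_invariant_sylow' hcop (Or.inl (hA hAodd)) p
  have hSp : IsPGroup p S := IsPGroup.of_card hi
  let P : Sylow p G := hSp.toSylow hSi
  have hPS : (P : Subgroup G) = S := rfl
  have hS0 : S ≠ ⊥ := fun h => by
    rw [h, Subgroup.index_bot] at hSi
    exact hSi hpG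
  set Z := Cfsg.centerThompsonOf p S with hZ
  have hZA : ∀ a : A, ∀ x ∈ Z, a • x ∈ Z := by
    intro a x hx
    have h := Cfsg.Agent.Invol.centerEl_map (p := p) (MulDistribMulAction.toMulAut A G a).toMonoidHom S
      (fun y _ hy => (MulDistribMulAction.toMulAut A G a).injective (by
        rw [map_one]; exact hy))
    rw [map_invariant hSA a] at h
    rw [hZ, ← h]
    exact ⟨x, hx, rfl⟩
  have hZ0 : Z ≠ ⊥ := Cfsg.Agent.Invol.isZJFunctor_centerEl.ne_bot hSp hS0
  have hZS : Z ≤ S := Cfsg.Agent.Invol.centerEl_le S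
  by_cases hNt : Subgroup.normalizer (Z : Set G) = ⊤
  · have hZn : Z.Normal := Subgroup.normalizer_eq_top_iff.1 hNt
    by_cases hZt : Z = ⊤
    · have hG : IsPGroup p G := fun g => by
        obtain ⟨k, hk⟩ := hSp ⟨g, hZS (hZt ▸ Subgroup.mem_top g)⟩
        exact ⟨k, congrArg Subtype.val hk⟩
      haveI := hG.isNilpotent
      infer_instance
    · exact absurd hZA (fun h => by
        obtain ⟨a, x, hx, hax⟩ := hN Z hZn hZ0 hZt
        exact hax (h a x hx))
  · have hc : Cfsg.HasNormalPComplement p G :=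
      (Cfsg.Agent.S0117.result hp2 P).2 (by
        rw [hPS]
        exact Cfsg.Agent.Grp.hasNormalPComplement_of_nilpotent (hnil _ hNt (normalizer_invariant hZA)))
    obtain ⟨T, N, hNn, hcompl⟩ := hc
    haveI := hNn
    have hidx : N.index = Nat.card (T : Subgroup G) := (Subgroup.IsComplement'.index_eq_card hcompl.symm)
    obtain ⟨j, hj⟩ := IsPGroup.iff_card.1 T.isPGroup'
    rw [hj] at hidx
    have hNcop : (Nat.card N).Coprime N.index := by
      rw [hidx]
      refine (Nat.Coprime.pow_right _ ?_)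
      refine ((hp.coprime_iff_not_dvd).2 fun hd => ?_).symm
      have h1 : N.index * Nat.card N = Nat.card G := by rw [mul_comm, Subgroup.card_mul_index]
      have h2 : Nat.card (T : Subgroup G) * (T : Subgroup G).index = Nat.card G := Subgroup.card_mul_index _
      rw [hidx, ← h2, hj] at h1
      exact T.not_dvd_index (Nat.eq_of_mul_eq_mul_left (pow_pos hp.pos j) h1 ▸ hd)
    have hNA : ∀ a : A, ∀ x ∈ N, a • x ∈ N := by
      intro a x hx
      have ho : orderOf (a • x) ∣ Nat.card N := by
        rw [show a • x = MulDistribMulAction.toMulAut A G a x from rfl, MulEquiv.orderOf_eq]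
        exact Subgroup.orderOf_dvd_natCard _ hx
      have h1 : orderOf ((a • x : G) : G ⧸ N) ∣ Nat.gcd (Nat.card N) N.index :=
        Nat.dvd_gcd ((orderOf_map_dvd (QuotientGroup.mk' N) _).trans ho)
          (by rw [Subgroup.index_eq_card]; exact orderOf_dvd_natCard _)
      rw [hNcop, Nat.dvd_one, orderOf_eq_one_iff, QuotientGroup.eq_one_iff] at h1
      exact h1
    have hN1 : N ≠ ⊤ := fun h => by
      rw [h, Subgroup.index_top] at hidx
      have hT : (T : Subgroup G) = ⊥ := Subgroup.card_eq_one.1 (hj.trans hidx.symm)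
      have := T.not_dvd_index
      rw [hT, Subgroup.index_bot] at this
      exact this hpG
    haveI : Group.IsNilpotent N := hnil N hN1 hNA
    haveI : Group.IsSolvable N := inferInstance
    have hq : IsPGroup p (G ⧸ N) := IsPGroup.of_card (n := j) (by rw [← Subgroup.index_eq_card, hidx])
    haveI := hq.isNilpotent
    exact solvable_of_ker_le_range N.subtype (QuotientGroup.mk' N)
      (by rw [QuotientGroup.ker_mk', Subgroup.range_subtype])

/-- A subgroup generated by invariant subgroups is invariant. -/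
theorem sup_invariant {G : Type*} [Group G] [MulDistribMulAction A G] {H K : Subgroup G}
    (hH : ∀ a : A, ∀ x ∈ H, a • x ∈ H) (hK : ∀ a : A, ∀ x ∈ K, a • x ∈ K) :
    ∀ a : A, ∀ x ∈ H ⊔ K, a • x ∈ H ⊔ K := fun a x hx => by
  have h : H ⊔ K ≤ (H ⊔ K).comap (MulDistribMulAction.toMulAut A G a).toMonoidHom :=
    sup_le (fun y hy => Subgroup.mem_sup_left (hH a y hy)) fun y hy => Subgroup.mem_sup_right (hK a y hy)
  exact h hx

/-- Structure of a non-nilpotent group whose maximal invariant subgroups are nilpotent. -/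
theorem invariant_max_nilpotent_structure {G : Type u} [Group G] [Finite G] [MulDistribMulAction A G]
    (hFT : ∀ (H : Type u) [Group H] [Finite H], Odd (Nat.card H) → Group.IsSolvable H)
    (hA : Odd (Nat.card A) → Group.IsSolvable A)
    (hcop : (Nat.card A).Coprime (Nat.card G))
    (hmax : ∀ H : Subgroup G, H ≠ ⊤ → (∀ a : A, ∀ x ∈ H, a • x ∈ H) →
      (∀ K : Subgroup G, H < K → (∀ a : A, ∀ x ∈ K, a • x ∈ K) → K = ⊤) → Group.IsNilpotent H)
    (hG : ¬ Group.IsNilpotent G) :
    Group.IsSolvable G ∧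
      (∃ p q a b : ℕ, p.Prime ∧ q.Prime ∧ p ≠ q ∧ Nat.card G = p ^ a * q ^ b) ∧
      ∃ (p : ℕ) (P : Sylow p G), p.Prime ∧ p ∣ Nat.card G ∧ (P : Subgroup G).Normal ∧
        (∀ a : A, ∀ x ∈ (P : Subgroup G), a • x ∈ (P : Subgroup G)) := by
  classical
  have hex : ∀ L : Subgroup G, L ≠ ⊤ → (∀ a : A, ∀ x ∈ L, a • x ∈ L) →
      ∃ M, L ≤ M ∧ M ≠ ⊤ ∧ (∀ a : A, ∀ x ∈ M, a • x ∈ M) ∧
        ∀ K : Subgroup G, M < K → (∀ a : A, ∀ x ∈ K, a • x ∈ K) → K = ⊤ := by
    intro L hL hLA
    obtain ⟨M, hLM, hM⟩ := (Set.toFinite {M : Subgroup G | M ≠ ⊤ ∧ ∀ a : A, ∀ x ∈ M, a • x ∈ M}).exists_le_maximal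
      (a := L) ⟨hL, hLA⟩
    exact ⟨M, hLM, hM.1.1, hM.1.2, fun K hK hKA => by_contra fun hne => hK.not_ge (hM.2 ⟨hne, hKA⟩ hK.le)⟩
  have hnil : ∀ H : Subgroup G, H ≠ ⊤ → (∀ a : A, ∀ x ∈ H, a • x ∈ H) → Group.IsNilpotent H := by
    intro H hH hHA
    obtain ⟨M, hHM, hM1, hMA, hMmax⟩ := hex H hH hHA
    haveI := hmax M hM1 hMA hMmax
    exact Group.nilpotent_of_mulEquiv (Subgroup.subgroupOfEquivOfLe hHM)
  haveI hsol : Group.IsSolvable G := isSolvable_of_proper_nilpotent hFT hA _ G rfl hcop hnil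
  haveI : Nontrivial G := by
    by_contra h
    rw [not_nontrivial_iff_subsingleton] at h
    exact hG inferInstance
  have hcA : ∀ a : A, ∀ x ∈ _root_.commutator G, a • x ∈ _root_.commutator G := fun a x hx => by
    have hch : (_root_.commutator G).Characteristic := inferInstance
    have h := hch.fixed (MulDistribMulAction.toMulAut A G a)
    rw [← h] at hx
    exact hx
  obtain ⟨M, hcM, hM1, hMA, hMmax⟩ := hex _ (Group.IsSolvable.commutator_lt_top_of_nontrivial G).ne hcA
  haveI hMn : M.Normal := ⟨fun x hx g => by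
    rw [show g * x * g⁻¹ = ⁅g, x⁆ * x by rw [commutatorElement_def]; group]
    refine M.mul_mem (hcM ?_) hx
    rw [_root_.commutator_def]
    exact Subgroup.commutator_mem_commutator (Subgroup.mem_top g) (Subgroup.mem_top x)⟩
  have hMnil := hnil M hM1 hMA
  obtain ⟨q, hq, hqM⟩ := Nat.exists_prime_and_dvd (mt Subgroup.index_eq_one.1 hM1)
  haveI := Fact.mk hq
  have hsyl : ∀ (r : ℕ) [Fact r.Prime], ∃ P : Sylow r G, ∀ a : A, ∀ x ∈ (P : Subgroup G), a • x ∈ (P : Subgroup G) := by
    intro r _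
    obtain ⟨S, hSA, ⟨i, hi⟩, hSi⟩ := Cfsg.Agent.S4381.exists_invariant_sylow' hcop (Or.inr hsol) r
    exact ⟨(IsPGroup.of_card hi).toSylow hSi, hSA⟩
  obtain ⟨Q, hQA⟩ := hsyl q
  have hQM : (Q : Subgroup G) ⊔ M = ⊤ := by
    refine hMmax _ (lt_of_le_of_ne le_sup_right fun h => ?_) (sup_invariant hQA hMA)
    exact Q.not_dvd_index (hqM.trans (Subgroup.index_dvd_of_le (h ▸ le_sup_left)))
  obtain ⟨e, he⟩ : ∃ e, M.index = q ^ e := by
    obtain ⟨e, he⟩ := IsPGroup.iff_card.1 Q.isPGroup'
    have h : M.index ∣ q ^ e := by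
      rw [← Subgroup.relIndex_top_right M, ← hQM, Subgroup.relIndex_sup_right, ← he]
      exact Subgroup.relIndex_dvd_card M Q
    obtain ⟨k, -, hk⟩ := (Nat.dvd_prime_pow hq).1 h
    exact ⟨k, hk⟩
  have hPn : ∀ (r : ℕ) [Fact r.Prime], r ≠ q → ∀ P : Sylow r G, (P : Subgroup G).Normal := by
    intro r _ hrq P
    have hPM : (P : Subgroup G) ≤ M := by
      intro x hx
      obtain ⟨k, hk⟩ := (IsPGroup.iff_orderOf.1 P.isPGroup') ⟨x, hx⟩
      rw [Subgroup.orderOf_mk] at hk
      have h1 : orderOf (x : G ⧸ M) ∣ Nat.gcd (r ^ k) (q ^ e) := by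
        refine Nat.dvd_gcd ?_ ?_
        · rw [← hk]; exact orderOf_map_dvd (QuotientGroup.mk' M) x
        · rw [← he, Subgroup.index_eq_card]; exact orderOf_dvd_natCard _
      rw [Nat.Coprime.pow k e ((Nat.coprime_primes (Fact.out) hq).2 hrq), Nat.dvd_one, orderOf_eq_one_iff,
        QuotientGroup.eq_one_iff] at h1
      exact h1
    let P' : Sylow r M := P.subtype hPM
    haveI : (P' : Subgroup M).Normal := Cfsg.Agent.Grp.isNilpotent_iff_sylow_normal.1 hMnil r inferInstance P'
    haveI : (P' : Subgroup M).Characteristic := P'.characteristic_of_normal inferInstance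
    have h : ((P' : Subgroup M).map M.subtype).Normal := ConjAct.normal_of_characteristic_of_normal
    rwa [show (P' : Subgroup M).map M.subtype = (P : Subgroup G) from by
      show ((P : Subgroup G).subgroupOf M).map M.subtype = P
      rw [Subgroup.map_subgroupOf_eq_of_le hPM]] at h
  obtain ⟨r, hr, hrq, hrG⟩ : ∃ r : ℕ, r.Prime ∧ r ≠ q ∧ r ∣ Nat.card G := by
    by_contra hno
    push Not at hno
    exact hG (IsPGroup.isNilpotent (IsPGroup.of_card (Nat.eq_prime_pow_of_unique_prime_dvd Nat.card_pos.ne'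
      fun {s} hs hd => by_contra fun h => hno s hs h hd)))
  obtain ⟨r, hrfact, hrq, hrG, P, hPA, hPQ⟩ : ∃ (r : ℕ) (_ : Fact r.Prime), r ≠ q ∧ r ∣ Nat.card G ∧
      ∃ P : Sylow r G, (∀ a : A, ∀ x ∈ (P : Subgroup G), a • x ∈ (P : Subgroup G)) ∧
        (P : Subgroup G) ⊔ (Q : Subgroup G) = ⊤ := by
    by_contra hno
    refine hG (Cfsg.Agent.Grp.isNilpotent_iff_sylow_normal.2 fun s _ S => ?_)
    by_cases hsq : s = q
    swap
    · exact hPn s hsq S
    subst hsq
    have hQn : (Q : Subgroup G).Normal := by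
      rw [← Subgroup.normalizer_eq_top_iff, eq_top_iff]
      refine Cfsg.Agent.Grp.le_of_forall_sylow le_top fun t ht => ?_
      haveI := ht
      by_cases hts : t = s
      · subst hts
        refine ⟨Q, ⟨le_top, Q.isPGroup', ?_⟩, Subgroup.le_normalizer⟩
        rw [Subgroup.relIndex_top_right]; exact Q.not_dvd_index
      · obtain ⟨R, hRA⟩ := hsyl t
        refine ⟨R, ⟨le_top, R.isPGroup', ?_⟩, fun x hx => ?_⟩
        · rw [Subgroup.relIndex_top_right]; exact R.not_dvd_index
        by_cases htG : t ∣ Nat.card G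
        · have hne : (R : Subgroup G) ⊔ (Q : Subgroup G) ≠ ⊤ := fun h =>
            hno ⟨t, ht, hts, htG, R, hRA, h⟩
          haveI := hnil _ hne (sup_invariant hRA hQA)
          have hcom : ∀ y ∈ (Q : Subgroup G), x * y = y * x := fun y hy => by
            obtain ⟨i, hi⟩ := (IsPGroup.iff_orderOf.1 R.isPGroup') ⟨x, hx⟩
            obtain ⟨j, hj⟩ := (IsPGroup.iff_orderOf.1 Q.isPGroup') ⟨y, hy⟩
            rw [Subgroup.orderOf_mk] at hi hj
            exact congrArg Subtype.val (Cfsg.Agent.Char.Star.commute_of_coprime_order (E := ↥((R : Subgroup G) ⊔ Q))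
              inferInstance (x := ⟨x, Subgroup.mem_sup_left hx⟩) (y := ⟨y, Subgroup.mem_sup_right hy⟩)
              (by rw [Subgroup.orderOf_mk, Subgroup.orderOf_mk, hi, hj]
                  exact Nat.Coprime.pow i j ((Nat.coprime_primes ht.out Fact.out).2 hts)))
          exact Subgroup.centralizer_le_normalizer _
            (Subgroup.mem_centralizer_iff.2 fun y hy => (hcom y hy).symm)
        · obtain ⟨i, hi⟩ := (IsPGroup.iff_orderOf.1 R.isPGroup') ⟨x, hx⟩
          rw [Subgroup.orderOf_mk] at hi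
          rcases i with _ | i
          · rw [pow_zero, orderOf_eq_one_iff] at hi
            rw [hi]; exact one_mem _
          · exact absurd ((hi ▸ dvd_pow_self t i.succ_ne_zero : t ∣ orderOf x).trans (orderOf_dvd_natCard x)) htG
    haveI := hQn
    haveI := Sylow.unique_of_normal Q hQn
    rw [Subsingleton.elim S Q]
    exact hQn
  haveI := hrfact
  haveI hPnorm := hPn r hrq P
  obtain ⟨a, ha⟩ := IsPGroup.iff_card.1 P.isPGroup'
  obtain ⟨b, hb⟩ := IsPGroup.iff_card.1 Q.isPGroup'
  have hidx : (P : Subgroup G).index ∣ q ^ b := by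
    rw [← Subgroup.relIndex_top_right (P : Subgroup G), ← hPQ, sup_comm, Subgroup.relIndex_sup_right, ← hb]
    exact Subgroup.relIndex_dvd_card _ _
  obtain ⟨c, -, hc⟩ := (Nat.dvd_prime_pow hq).1 hidx
  refine ⟨hsol, ⟨r, q, a, c, Fact.out, hq, hrq, ?_⟩, r, P, Fact.out, hrG, hPnorm, hPA⟩
  rw [← Subgroup.card_mul_index (P : Subgroup G), ha, hc]

end Cfsg.Agent.OddUse
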