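import Cfsg.Agent.Lib.OddUse.Basic
import Cfsg.Agent.Lib.OddUse.RankTwoSylow
import Cfsg.Agent.Lib.OddUse.InvariantMax
import Cfsg.Agent.Lib.OddUse.AutCentSylow

/-!
# Statements that only lack solvability in odd order

Each takes that property as an explicit argument.
-/

set_option autoImplicit false

namespace Cfsg.Agent.OddUse

universe u v

theorem simple_two_rank_types {G : Type u} [Group G] [Finite G] [IsSimpleGroup G]
    (hFT : ∀ (H : Type u) [Group H] [Finite H], Odd (Nat.card H) → Group.IsSolvable H)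
    (hG : ¬ IsMulCommutative G) (h2 : Cfsg.PRankLE 2 2 G) (S : Sylow 2 G) {F : Type*} [Field F] [Fintype F]
    (hF : Fintype.card F = 16) (P : Sylow 2 (Cfsg.PSU 3 F 4)) :
    (∃ n : ℕ, 2 ≤ n ∧ Nonempty ((S : Subgroup G) ≃* DihedralGroup n)) ∨ Cfsg.IsQuasiDihedral (S : Subgroup G) ∨
      Cfsg.IsWreathed (S : Subgroup G) ∨ Nonempty ((S : Subgroup G) ≃* (P : Subgroup (Cfsg.PSU 3 F 4))) :=
  simple_rank_two_sylow hG (even_card_of_simple (fun h => hFT G h) hG) h2 S hF P

theorem autCentralizer_sylow_two_solvable {G : Type u} [Group G] [Finite G]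
    (hFT : ∀ (H : Type u) [Group H] [Finite H], Odd (Nat.card H) → Group.IsSolvable H)
    (hO : ∀ N : Subgroup G, N.Normal → Odd (Nat.card N) → N = ⊥) (S : Sylow 2 G) (C : Subgroup (MulAut G))
    (hC : ∀ φ : MulAut G, φ ∈ C ↔ ∀ s : G, s ∈ S → φ s = s) :
    (∀ T : Sylow 2 ↥C, (∀ a b : ↥T, a * b = b * a) ∧
      ∃ N : Subgroup ↥C, N.Normal ∧ Subgroup.IsComplement' N (T : Subgroup ↥C)) ∧ Group.IsSolvable ↥C := by
  haveI : Fact (Nat.Prime 2) := ⟨Nat.prime_two⟩
  have h := autCentralizer_sylow_two hO S C hC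
  refine ⟨fun T => ⟨(h T).1, let ⟨N, hN, hc, _⟩ := (h T).2; ⟨N, hN, hc⟩⟩, ?_⟩
  obtain ⟨T⟩ : Nonempty (Sylow 2 ↥C) := Sylow.nonempty
  obtain ⟨hab, N, hN, hc, hodd⟩ := h T
  haveI := hN
  haveI : Group.IsSolvable N := hFT N hodd
  haveI : Finite (MulAut G) := Finite.of_injective (fun φ => (φ : G → G)) DFunLike.coe_injective
  haveI : Group.IsNilpotent (T : Subgroup ↥C) := T.isPGroup'.isNilpotent
  haveI : Group.IsSolvable (↥C ⧸ N) :=
    solvable_of_surjective (f := hc.symm.QuotientMulEquiv.symm.toMonoidHom) (MulEquiv.surjective _)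
  exact solvable_of_ker_le_range N.subtype (QuotientGroup.mk' N)
    (by rw [QuotientGroup.ker_mk', Subgroup.range_subtype])

end Cfsg.Agent.OddUse
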