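import Cfsg.Prelude.Def_Solvable
import Cfsg.Agent.Lib.Transfer.SquareFree.Structure
import Cfsg.Agent.Lib.Grp.Real

/-!
# Two-parts of class sizes, modulo solvability in odd order

If no class size is divisible by 4, or if no subgroup has two nontrivial class sizes that are
coprime, the group is solvable once groups of odd order are solvable (`hFT`).
-/

set_option autoImplicit false
set_option linter.style.haveILetI false

open scoped commutatorElement

namespace Cfsg.Agent.ClassTwoPart

open Cfsg Subgroup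

universe u

theorem isSolvable_ext {G : Type u} [Group G] (N : Subgroup G) [N.Normal]
    [Group.IsSolvable N] [Group.IsSolvable (G ⧸ N)] : Group.IsSolvable G :=
  Group.isSolvable_of_ker_le_range N.subtype (QuotientGroup.mk' N) (by simp)

variable (hFT : ∀ (K : Type u) [Group K] [Finite K], Odd (Nat.card K) → Group.IsSolvable K)
include hFT

/-- A group with normal 2-complement is solvable. -/
theorem isSolvable_of_complement {G : Type u} [Group G] [Finite G]
    (h : HasNormalPComplement 2 G) : Group.IsSolvable G := by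
  haveI : Fact (Nat.Prime 2) := ⟨Nat.prime_two⟩
  obtain ⟨N, hN, hd, k, hk⟩ := Transfer.hasNormalPComplement_iff_exists.1 h
  haveI := hN
  haveI : Group.IsSolvable N := hFT N (Nat.odd_iff.2 (Nat.two_dvd_ne_zero.1 hd))
  haveI : Group.IsNilpotent (G ⧸ N) :=
    (IsPGroup.of_card (p := 2) (n := k) (by rw [← Subgroup.index_eq_card, hk])).isNilpotent
  haveI : Group.IsSolvable (G ⧸ N) := inferInstance
  exact isSolvable_ext N

/-- A group in which no class size is divisible by 4 is solvable. -/
theorem isSolvable_of_not_four_dvd {G : Type u} [Group G] [Finite G]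
    (h : ∀ x : G, ¬ 4 ∣ (centralizer ({x} : Set G)).index) : Group.IsSolvable G := by
  haveI : Fact (Nat.Prime 2) := ⟨Nat.prime_two⟩
  let f := QuotientGroup.mk' (center G)
  have hf : Function.Surjective f := QuotientGroup.mk'_surjective _
  obtain ⟨P⟩ : Nonempty (Sylow 2 G) := inferInstance
  have hker : ∀ a ∈ (P : Subgroup G), ∀ b ∈ (P : Subgroup G),
      f (a ^ 2) = 1 ∧ f a * f b = f b * f a := by
    intro a ha b hb
    obtain ⟨h1, h2⟩ := Transfer.SquareFree.pow_comm_mem_center (p := 2) (fun x => by simpa using h x) P ha hb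
    have h2' : f ⁅a, b⁆ = 1 := (QuotientGroup.eq_one_iff _).2 h2
    rw [map_commutatorElement, commutatorElement_eq_one_iff_mul_comm] at h2'
    exact ⟨(QuotientGroup.eq_one_iff _).2 h1, h2'⟩
  have hbar := isSolvable_of_complement hFT <|
    Transfer.SquareFree.hasNormalPComplement_of_elementary (p := 2) (Nat.card (G ⧸ center G)) rfl
      (fun r hr _ => hr.two_le) (P.mapSurjective hf)
      (by rintro _ ⟨a, ha, rfl⟩ _ ⟨b, hb, rfl⟩; exact (hker a ha b hb).2)
      (by rintro _ ⟨a, ha, rfl⟩; rw [← map_pow]; exact (hker a ha a ha).1)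
      (fun y _ hd => by
        obtain ⟨x, rfl⟩ := hf y
        exact h x ((show 2 ^ 2 = 4 by norm_num) ▸ hd.trans
          (Transfer.SquareFree.index_centralizer_map_dvd f hf x)))
  haveI := hbar
  haveI : Group.IsSolvable (center G) := by
    exact Group.isSolvable_of_comm fun a b => mul_comm' a b
  exact isSolvable_ext (center G)

/-- A group with no nontrivial real element of odd order is solvable. -/
theorem isSolvable_of_no_real {G : Type u} [Group G] [Finite G]
    (h : ∀ x : G, x ≠ 1 → Odd (orderOf x) → ¬ IsConj x x⁻¹) : Group.IsSolvable G := by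
  haveI : Fact (Nat.Prime 2) := ⟨Nat.prime_two⟩
  obtain ⟨P⟩ : Nonempty (Sylow 2 G) := inferInstance
  haveI := Grp.two_sylow_normal_of_no_real h P
  haveI : Group.IsSolvable (P : Subgroup G) := by
    haveI := P.isPGroup'.isNilpotent
    infer_instance
  haveI : Group.IsSolvable (G ⧸ (P : Subgroup G)) := hFT _ (by
    rw [← Subgroup.index_eq_card]
    exact Nat.odd_iff.2 (Nat.two_dvd_ne_zero.1 P.not_dvd_index))
  exact isSolvable_ext (P : Subgroup G)

omit hFT in
/-- A real element of odd order is inverted by a 2-element. -/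
theorem exists_two_inverting {G : Type u} [Group G] [Finite G] {x : G} (hc : IsConj x x⁻¹) :
    ∃ s : G, (∃ k, orderOf s = 2 ^ k) ∧ s * x * s⁻¹ = x⁻¹ := by
  obtain ⟨g, hg⟩ := isConj_iff.1 hc
  obtain ⟨k, m, hm, hkm⟩ := Nat.exists_eq_two_pow_mul_odd (orderOf_pos g).ne'
  refine ⟨g ^ m, ?_, ?_⟩
  · obtain ⟨j, -, hj⟩ := (Nat.dvd_prime_pow Nat.prime_two).1
      (orderOf_dvd_of_pow_eq_one (show (g ^ m) ^ 2 ^ k = 1 by
        rw [← pow_mul, mul_comm, ← hkm, pow_orderOf_eq_one]))
    exact ⟨j, hj⟩
  · obtain ⟨l, rfl⟩ := hm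
    have h2 : Commute (g ^ (2 * l)) x := by
      rw [pow_mul]
      have := Grp.sq_mem_centralizer hg
      rw [mem_centralizer_singleton_iff, ← pow_two] at this
      exact Commute.pow_left this l
    calc g ^ (2 * l + 1) * x * (g ^ (2 * l + 1))⁻¹
        = g * (g ^ (2 * l) * x) * (g ^ (2 * l))⁻¹ * g⁻¹ := by rw [pow_succ' g]; group
      _ = g * x * g⁻¹ := by rw [h2.eq]; group
      _ = x⁻¹ := hg

omit hFT in
/-- A real element of odd order gives a subgroup with coprime nontrivial class sizes. -/
theorem exists_coprime_of_real {G : Type u} [Group G] [Finite G] {x : G} (hx1 : x ≠ 1)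
    (hodd : Odd (orderOf x)) (hc : IsConj x x⁻¹) :
    ∃ (H : Subgroup G) (a b : H), 1 < (centralizer ({a} : Set H)).index ∧
      1 < (centralizer ({b} : Set H)).index ∧
      ((centralizer ({a} : Set H)).index).Coprime (centralizer ({b} : Set H)).index := by
  obtain ⟨s, ⟨k, hk⟩, hs⟩ := exists_two_inverting hc
  set X := zpowers x
  set T := zpowers s
  have hTX : T ≤ normalizer (X : Set G) := by
    rw [zpowers_le, Grp.mem_normalizer_iff_smul, ← Grp.map_conj_eq_smul, MonoidHom.map_zpowers]
    simp only [MulEquiv.coe_toMonoidHom, MulAut.conj_apply]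
    rw [hs, zpowers_inv]
  have hcop : (2 ^ k).Coprime (orderOf x) := (Nat.coprime_two_left.2 hodd).pow_left k
  have hcard : Nat.card ↥(T ⊔ X) = 2 ^ k * orderOf x := by
    have h1 := Grp.card_sup_mul_card_inf (H := T) (N := X) hTX
    have h2 : T ⊓ X = ⊥ := Grp.inf_eq_bot_of_coprime (by rwa [Nat.card_zpowers, Nat.card_zpowers, hk])
    rwa [h2, Subgroup.card_bot, mul_one, Nat.card_zpowers, Nat.card_zpowers, hk] at h1
  let a : ↥(T ⊔ X) := ⟨x, mem_sup_right (mem_zpowers x)⟩
  let b : ↥(T ⊔ X) := ⟨s, mem_sup_left (mem_zpowers s)⟩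
  have hab : ¬ Commute a b := fun h => hx1 (Grp.eq_one_of_odd_of_sq hodd (by
    have h1 : s * x = x * s := (congrArg Subtype.val h.eq).symm
    rw [h1, mul_inv_cancel_right] at hs
    calc x * x = x * x⁻¹ := by rw [← hs]
      _ = 1 := mul_inv_cancel x))
  have hdiv : ∀ c d : ↥(T ⊔ X), ¬ Commute c d → 1 < (centralizer ({c} : Set ↥(T ⊔ X))).index ∧
      (centralizer ({c} : Set ↥(T ⊔ X))).index * orderOf c ∣ 2 ^ k * orderOf x := by
    intro c d hcd
    refine ⟨one_lt_index_of_ne_top fun e => hcd ?_, ?_⟩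
    · exact (mem_centralizer_singleton_iff.1 (e ▸ mem_top d)).symm
    · rw [← hcard, ← (centralizer ({c} : Set ↥(T ⊔ X))).card_mul_index, mul_comm]
      exact Nat.mul_dvd_mul_right (orderOf_dvd_natCard _
        (mem_centralizer_singleton_iff.2 rfl : c ∈ centralizer ({c} : Set ↥(T ⊔ X)))) _
  obtain ⟨ha1, ha⟩ := hdiv a b hab
  obtain ⟨hb1, hb⟩ := hdiv b a fun h => hab h.symm
  rw [orderOf_mk] at ha hb
  rw [hk, mul_comm (2 ^ k)] at hb
  exact ⟨T ⊔ X, a, b, ha1, hb1,
    (hcop.coprime_dvd_left (Nat.dvd_of_mul_dvd_mul_right (orderOf_pos x) ha)).coprime_dvd_right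
      (Nat.dvd_of_mul_dvd_mul_right (Nat.two_pow_pos k) hb)⟩

/-- If no subgroup has two nontrivial coprime class sizes, the group is solvable. -/
theorem isSolvable_of_no_coprime {G : Type u} [Group G] [Finite G]
    (h : ∀ (H : Subgroup G) (x y : H), 1 < (centralizer ({x} : Set H)).index →
      1 < (centralizer ({y} : Set H)).index →
      ¬ ((centralizer ({x} : Set H)).index).Coprime (centralizer ({y} : Set H)).index) :
    Group.IsSolvable G :=
  isSolvable_of_no_real hFT fun x hx1 hodd hc => by
    obtain ⟨H, a, b, ha, hb, hab⟩ := exists_coprime_of_real hx1 hodd hc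
    exact h H a b ha hb hab

end Cfsg.Agent.ClassTwoPart
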