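import Cfsg.Agent.Lib.Invol.ComponentOrbit
import Cfsg.Agent.Lib.Grp.ComponentMax
import Cfsg.Agent.Lib.OddUse.Basic

/-!
# A component of an involution centralizer inside the layer
-/

set_option autoImplicit false

namespace Cfsg.Agent.OddUse

open scoped Pointwise commutatorElement
open Subgroup Cfsg.Agent.Grp

universe u

/-- A quasisimple group has even order, given solvability in odd order. -/
theorem even_card_of_quasisimple {H : Type u} [Group H] [Finite H]
    (hFT : ∀ (K : Type u) [Group K] [Finite K], Odd (Nat.card K) → Group.IsSolvable K)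
    (hq : Cfsg.IsQuasisimple H) : Even (Nat.card H) := by
  refine (Nat.even_or_odd _).resolve_right fun hodd => ?_
  haveI := hFT H hodd
  haveI := IsQuasisimple.nontrivial hq
  have h1 : _root_.commutator H = ⊤ := hq.1.commutator_eq_top
  exact (Group.IsSolvable.commutator_lt_top_of_nontrivial H).ne h1

/-- A component of an involution centralizer, when the 2-layer is the layer. -/
theorem component_of_centralizer {G : Type u} [Group G] [Finite G]
    (hFT : ∀ (K : Type u) [Group K] [Finite K], Odd (Nat.card K) → Group.IsSolvable K)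
    (hL2 : Cfsg.pLayer 2 G = Cfsg.layer G) (t : G) (ht : orderOf t = 2) (L : Subgroup G)
    (hLt : L ≤ Subgroup.centralizer ({t} : Set G))
    (hL : Cfsg.IsComponent (L.subgroupOf (Subgroup.centralizer ({t} : Set G)))) :
    ∃ D : Subgroup G, Cfsg.IsComponent D ∧ (L = D ∨ (L < D ∧ D = ⁅D, Subgroup.zpowers t⁆) ∨
      (D.map (MulAut.conj t).toMonoidHom ≠ D ∧
        L = (Cfsg.layer ↥((D ⊔ D.map (MulAut.conj t).toMonoidHom) ⊓ Subgroup.centralizer ({t} : Set G))).map
          ((D ⊔ D.map (MulAut.conj t).toMonoidHom) ⊓ Subgroup.centralizer ({t} : Set G)).subtype)) := by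
  haveI : Fact (Nat.Prime 2) := ⟨Nat.prime_two⟩
  set C := Subgroup.centralizer ({t} : Set G) with hCdef
  have ht2 : t ^ 2 = 1 := ht ▸ pow_orderOf_eq_one t
  have hLq : Cfsg.IsQuasisimple ↥L := (isQuasisimple_subgroupOf_iff hLt).mp hL.2
  have hperf : ⁅L, L⁆ = L := by
    have h := congrArg (Subgroup.map L.subtype) hLq.1.commutator_eq_top
    rwa [_root_.commutator_def, Subgroup.map_commutator, ← MonoidHom.range_eq_map, Subgroup.range_subtype] at h
  have hne : L ≠ ⊥ := (Subgroup.nontrivial_iff_ne_bot _).mp (IsQuasisimple.nontrivial hLq)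
  have hR : IsPGroup 2 (Subgroup.zpowers t) := IsPGroup.of_card (n := 1) (by rw [Nat.card_zpowers, ht, pow_one])
  have hCR : Subgroup.centralizer (Subgroup.zpowers t : Set G) = C := by
    rw [hCdef, Subgroup.zpowers_eq_closure, Subgroup.centralizer_closure]
  have hLE : L ≤ Cfsg.layer G := by
    rw [← hL2]
    refine le_trans ?_ (hCR ▸ lBalance hR : pLayerIn 2 C ≤ Cfsg.pLayer 2 G)
    have h1 := ComponentMax.component_le_pLayer hL (by
      rw [Nat.card_congr (Subgroup.subgroupOfEquivOfLe hLt).toEquiv]
      exact (even_card_of_quasisimple hFT hLq).two_dvd)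
    intro x hx
    exact ⟨⟨x, hLt hx⟩, h1 hx, rfl⟩
  obtain ⟨J, hJ, hLJ, -, hin, hout⟩ := Cfsg.Agent.Invol.component_orbit ht2 hLt hperf hne hL.1 hLE
    (fun D₁ D₂ hD₁C hD₂C hs₁ hs₂ hle => by
      rcases component_le_or_commute hL hs₁ with h | h
      · exact Or.inl fun x hx => h (show (⟨x, hLt hx⟩ : C) ∈ L.subgroupOf C from hx)
      rcases component_le_or_commute hL hs₂ with h' | h'
      · exact Or.inr fun x hx => h' (show (⟨x, hLt hx⟩ : C) ∈ L.subgroupOf C from hx)
      exfalso
      rw [Subgroup.commutator_eq_bot_iff_le_centralizer] at h h'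
      have h2 : L ≤ Subgroup.centralizer (L : Set G) := by
        refine hle.trans (sup_le ?_ ?_) <;> intro d hd <;> rw [Subgroup.mem_centralizer_iff] <;> intro l hl
        · exact (congrArg Subtype.val
            (Subgroup.mem_centralizer_iff.1 (h (show (⟨l, hLt hl⟩ : C) ∈ L.subgroupOf C from hl))
              ⟨d, hD₁C hd⟩ hd)).symm
        · exact (congrArg Subtype.val
            (Subgroup.mem_centralizer_iff.1 (h' (show (⟨l, hLt hl⟩ : C) ∈ L.subgroupOf C from hl))
              ⟨d, hD₂C hd⟩ hd)).symm
      exact hne (hperf ▸ Subgroup.commutator_eq_bot_iff_le_centralizer.2 h2))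
  refine ⟨J, hJ, ?_⟩
  by_cases hn : t ∈ Subgroup.normalizer (J : Set G)
  · have hle := hin hn
    by_cases hc : t ∈ Subgroup.centralizer (J : Set G)
    · left
      have hJC : J ≤ C := fun j hj => Subgroup.mem_centralizer_singleton_iff.2
        (Subgroup.mem_centralizer_iff.1 hc j hj)
      have hJc : Cfsg.IsComponent (J.subgroupOf C) := IsComponent.subgroupOf hJ hJC
      by_contra hne'
      refine hLJ ?_
      have h := IsComponent.commute hL hJc fun e => hne' (le_antisymm hle fun j hj =>
        (e ▸ (show (⟨j, hJC hj⟩ : C) ∈ J.subgroupOf C from hj) : (⟨j, hJC hj⟩ : C) ∈ L.subgroupOf C))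
      intro l hl
      rw [Subgroup.mem_centralizer_iff]
      intro j hj
      exact congrArg Subtype.val
        (Subgroup.mem_centralizer_iff.1 (h (show (⟨l, hLt hl⟩ : C) ∈ L.subgroupOf C from hl)) ⟨j, hJC hj⟩ hj)
    · right; left
      refine ⟨lt_of_le_of_ne hle fun e => hc (Subgroup.mem_centralizer_iff.2 fun j hj =>
        Subgroup.mem_centralizer_singleton_iff.1 (hLt (e ▸ hj))), ?_⟩
      set K := ⁅J, Subgroup.zpowers t⁆
      have hKJ : K ≤ J := commutator_le_left_of_le_normalizer (Subgroup.zpowers_le.2 hn)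
      have hKn : J ≤ Subgroup.normalizer (K : Set G) := by
        first
          | exact left_le_normalizer_commutator _ _
          | exact right_le_normalizer_commutator _ _
      haveI : (K.subgroupOf J).Normal := Subgroup.normal_subgroupOf_of_le_normalizer hKn
      rcases IsQuasisimple.eq_top_or_le_center hJ.2 (K.subgroupOf J) with h | h
      · exact le_antisymm (Subgroup.subgroupOf_eq_top.1 h) hKJ
      · exfalso
        have hJperf : ⁅J, J⁆ = J := by
          have h' := congrArg (Subgroup.map J.subtype) hJ.2.1.commutator_eq_top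
          rwa [_root_.commutator_def, Subgroup.map_commutator, ← MonoidHom.range_eq_map,
            Subgroup.range_subtype] at h'
        refine hc (Cfsg.Agent.Invol.centralizes_of_mod_center hJperf fun j hj => ?_)
        have hm : ⁅t, j⁆ ∈ K := by
          rw [← commutatorElement_inv]
          exact K.inv_mem (Subgroup.commutator_mem_commutator hj (Subgroup.mem_zpowers t))
        refine ⟨hKJ hm, Subgroup.mem_centralizer_iff.2 fun y hy => ?_⟩
        exact congrArg Subtype.val
          (Subgroup.mem_center_iff.1 (h (show (⟨_, hKJ hm⟩ : J) ∈ K.subgroupOf J from hm)) ⟨y, hy⟩)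
  · right; right
    obtain ⟨heq, -⟩ := hout hn
    refine ⟨fun e => hn (mem_normalizer_iff_smul.2 (by rw [← map_conj_eq_smul]; exact e)), ?_⟩
    have horb : Cfsg.Agent.Invol.orbitProd t J = J ⊔ J.map (MulAut.conj t).toMonoidHom := by
      refine le_antisymm (iSup_le fun i => ?_) (sup_le Cfsg.Agent.Invol.le_orbitProd ?_)
      · rcases Nat.even_or_odd' i with ⟨m, rfl | rfl⟩
        · rw [pow_mul, ht2, one_pow, map_one, one_smul]; exact le_sup_left
        · rw [pow_succ, pow_mul, ht2, one_pow, one_mul, map_conj_eq_smul]; exact le_sup_right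
      · rw [map_conj_eq_smul]
        simpa using Cfsg.Agent.Invol.le_orbitProd_conj (a := t) (J := J) 1
    rw [horb] at heq
    set X := (J ⊔ J.map (MulAut.conj t).toMonoidHom) ⊓ C
    have hLX : L ≤ X := heq ▸ Subgroup.commutator_le_self X
    haveI : (L.subgroupOf X).Normal := by
      rw [heq]
      have h : (⁅X, X⁆).subgroupOf X = _root_.commutator ↥X := by
        apply Subgroup.map_injective X.subtype_injective
        rw [Subgroup.subgroupOf_map_subtype, inf_eq_left.2 (Subgroup.commutator_le_self X), _root_.commutator_def,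
          Subgroup.map_commutator, ← MonoidHom.range_eq_map, Subgroup.range_subtype]
      rw [h]; infer_instance
    have hcomp : Cfsg.IsComponent (L.subgroupOf X) :=
      ⟨Subgroup.Normal.isSubnormal inferInstance, (isQuasisimple_subgroupOf_iff hLX).mpr hLq⟩
    refine le_antisymm (fun l hl => ⟨⟨l, hLX hl⟩, IsComponent.le_layer hcomp hl, rfl⟩) ?_
    refine le_of_le_of_eq ?_ heq.symm
    rw [← layer_perfect, Subgroup.map_commutator]
    exact Subgroup.commutator_mono (Subgroup.map_subtype_le _) (Subgroup.map_subtype_le _)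

end Cfsg.Agent.OddUse
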