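import Cfsg.Prelude.Def_Perm
import Cfsg.Agent.Lib.Grp.Primitive
import Cfsg.Agent.Lib.Grp.Basic
import Cfsg.Agent.S3360

/-!
Two-homogeneous groups which are not two-transitive, given solvability in odd order.
-/

set_option autoImplicit false

namespace Cfsg.Agent.OddUse.Kantor

open scoped Pointwise

universe u

variable {α : Type u} [Fintype α] [DecidableEq α] {G : Subgroup (Equiv.Perm α)}

/-- A pair can be sent to any other, up to order. -/
theorem move (h2 : MulAction.IsPretransitive G (Set.powersetCard α 2)) {a b c d : α} (hab : a ≠ b) (hcd : c ≠ d) :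
    ∃ g : G, (g • a = c ∧ g • b = d) ∨ (g • a = d ∧ g • b = c) := by
  obtain ⟨g, hg⟩ := h2.exists_smul_eq (⟨{a, b}, Finset.card_pair hab⟩ : Set.powersetCard α 2)
    ⟨{c, d}, Finset.card_pair hcd⟩
  refine ⟨g, ?_⟩
  have h : g • ({a, b} : Finset α) = {c, d} := (Set.powersetCard.coe_smul).symm.trans (congrArg Subtype.val hg)
  have ha : g • a ∈ ({c, d} : Finset α) := h ▸ Finset.smul_mem_smul_finset (by simp)
  have hb : g • b ∈ ({c, d} : Finset α) := h ▸ Finset.smul_mem_smul_finset (by simp)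
  simp only [Finset.mem_insert, Finset.mem_singleton] at ha hb
  have hne : g • a ≠ g • b := fun e => hab (smul_left_cancel g e)
  rcases ha with ha | ha <;> rcases hb with hb | hb
  · exact absurd (ha.trans hb.symm) hne
  · exact Or.inl ⟨ha, hb⟩
  · exact Or.inr ⟨ha, hb⟩
  · exact absurd (ha.trans hb.symm) hne

theorem exists_third (hne : G ≠ ⊥) (h2 : MulAction.IsPretransitive G (Set.powersetCard α 2))
    (hn2 : ¬ MulAction.IsMultiplyPretransitive G α 2) :
    (∀ a b : α, ∃ c : α, c ≠ a ∧ c ≠ b) ∧ ∀ a b : α, a ≠ b → ∀ c d : α, c ≠ d →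
      ∀ t : G, t • a = b → t • b = a → False := by
  refine ⟨fun a b => ?_, fun a b hab c d hcd t h1 h2' => hn2 ?_⟩
  · by_contra hcon
    push Not at hcon
    apply hn2
    rw [MulAction.is_two_pretransitive_iff]
    obtain ⟨g, hg⟩ : ∃ g : G, g ≠ 1 := by
      by_contra hc
      push Not at hc
      exact hne ((Subgroup.eq_bot_iff_forall _).2 fun x hx => congrArg Subtype.val (hc ⟨x, hx⟩))
    obtain ⟨x, hx⟩ : ∃ x, g • x ≠ x := by
      by_contra hc
      push Not at hc
      exact hg (Subtype.ext (Equiv.ext fun x => hc x))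
    have hmem : ∀ y, y = a ∨ y = b := fun y => or_iff_not_imp_left.2 fun h => hcon y h
    have hgg : g • (g • x) = x := by
      rcases hmem (g • (g • x)) with e | e <;> rcases hmem (g • x) with e' | e' <;> rcases hmem x with e'' | e''
      all_goals first
        | exact e.trans e''.symm
        | exact absurd (e'.trans e''.symm) hx
        | exact absurd (smul_left_cancel g (e.trans e'.symm)) hx
    intro p q r s hpq hrs
    have hx2 : ∀ y, y = x ∨ y = g • x := fun y => by
      rcases hmem y with e | e <;> rcases hmem x with e' | e' <;> rcases hmem (g • x) with e'' | e''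
      all_goals first
        | exact Or.inl (e.trans e'.symm)
        | exact Or.inr (e.trans e''.symm)
        | exact absurd (e''.trans e'.symm) hx
    rcases hx2 p with rfl | rfl <;> rcases hx2 q with rfl | rfl <;> rcases hx2 r with rfl | rfl <;>
      rcases hx2 s with rfl | rfl
    all_goals first
      | exact absurd rfl hpq
      | exact absurd rfl hrs
      | exact ⟨1, one_smul _ _, one_smul _ _⟩
      | exact ⟨g, rfl, hgg⟩
      | exact ⟨g, hgg, rfl⟩
  · rw [MulAction.is_two_pretransitive_iff]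
    intro p q r s hpq hrs
    have key : ∀ r s : α, r ≠ s → ∃ g : G, g • a = r ∧ g • b = s := by
      intro r s hrs
      obtain ⟨g, hg | hg⟩ := move h2 hab hrs
      · exact ⟨g, hg⟩
      · exact ⟨g * t, by rw [mul_smul, h1, hg.2], by rw [mul_smul, h2', hg.1]⟩
    obtain ⟨g, hg⟩ := key p q hpq
    obtain ⟨k, hk⟩ := key r s hrs
    exact ⟨k * g⁻¹, by rw [mul_smul, inv_smul_eq_iff.2 hg.1.symm, hk.1],
      by rw [mul_smul, inv_smul_eq_iff.2 hg.2.symm, hk.2]⟩

theorem odd_card (hne : G ≠ ⊥) (h2 : MulAction.IsPretransitive G (Set.powersetCard α 2))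
    (hn2 : ¬ MulAction.IsMultiplyPretransitive G α 2) : Odd (Nat.card G) := by
  by_contra hodd
  rw [Nat.not_odd_iff_even] at hodd
  obtain ⟨t, ht⟩ := exists_prime_orderOf_dvd_card' (G := G) 2 hodd.two_dvd
  obtain ⟨x, hx⟩ : ∃ x, t • x ≠ x := by
    by_contra hc
    push Not at hc
    have : t = 1 := Subtype.ext (Equiv.ext fun x => hc x)
    rw [this, orderOf_one] at ht
    norm_num at ht
  refine (exists_third hne h2 hn2).2 x (t • x) hx.symm x (t • x) hx.symm t rfl ?_
  rw [smul_smul, ← pow_two, ← ht, pow_orderOf_eq_one, one_smul]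

theorem primitive (hne : G ≠ ⊥) (h2 : MulAction.IsPretransitive G (Set.powersetCard α 2))
    (hn2 : ¬ MulAction.IsMultiplyPretransitive G α 2) : MulAction.IsPreprimitive G α := by
  have h3 := (exists_third hne h2 hn2).1
  haveI : MulAction.IsPretransitive G α := ⟨fun a b => by
    by_cases hab : a = b
    · exact ⟨1, by rw [one_smul, hab]⟩
    obtain ⟨c, hca, hcb⟩ := h3 a b
    obtain ⟨g, hg | hg⟩ := move h2 hca.symm hcb.symm
    · exact ⟨g, hg.1⟩
    · exact ⟨g * g, by rw [mul_smul, hg.1, hg.2]⟩⟩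
  refine ⟨fun {B} hB => or_iff_not_imp_left.2 fun hs => ?_⟩
  rw [Set.not_subsingleton_iff] at hs
  obtain ⟨a, ha, b, hb, hab⟩ := hs
  refine Set.eq_univ_of_forall fun c => ?_
  by_contra hc
  obtain ⟨g, hg⟩ := move h2 hab (show a ≠ c from fun e => hc (e ▸ ha))
  have hB' : g • B = B := by
    refine hB.smul_eq_of_nonempty ?_
    rcases hg with hg | hg
    · exact ⟨a, hg.1 ▸ Set.smul_mem_smul_set ha, ha⟩
    · exact ⟨a, hg.2 ▸ Set.smul_mem_smul_set hb, ha⟩
  apply hc
  rw [← hB']
  rcases hg with hg | hg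
  · exact hg.2 ▸ Set.smul_mem_smul_set hb
  · exact hg.1 ▸ Set.smul_mem_smul_set ha

/-- Automorphisms of an elementary abelian group as linear maps. -/
noncomputable def linHom {p : ℕ} {M : Type*} [CommGroup M] [Module (ZMod p) (Additive M)] :
    MulAut M →* (Additive M ≃ₗ[ZMod p] Additive M) where
  toFun φ :=
    { (MulEquiv.toAdditive φ : Additive M ≃+ Additive M) with
      map_smul' := fun c x => ZMod.map_smul (MulEquiv.toAdditive φ : Additive M ≃+ Additive M) c x }
  map_one' := LinearEquiv.ext fun _ => rfl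
  map_mul' _ _ := LinearEquiv.ext fun _ => rfl

theorem main (hodd : Odd (Nat.card G) → Group.IsSolvable G) (hne : G ≠ ⊥)
    (h2 : MulAction.IsPretransitive G (Set.powersetCard α 2)) (hn2 : ¬ MulAction.IsMultiplyPretransitive G α 2) :
    Odd (Nat.card G) ∧ ∃ (p f : ℕ) (_ : Fact p.Prime), p ≠ 2 ∧ Fintype.card α = p ^ f ∧ p ^ f % 4 = 3 ∧
      ∃ e : α ≃ GaloisField p f,
        (∀ g : G, e.symm.trans (((g : Equiv.Perm α)).trans e) ∈ Cfsg.semiaffineGroup (GaloisField p f)) ∧
        ∀ b : GaloisField p f, ∃ g : G, ∀ x : α, e ((g : Equiv.Perm α) x) = e x + b := by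
  classical
  have ho := odd_card hne h2 hn2
  haveI hsol : Group.IsSolvable G := hodd ho
  have hprim := primitive hne h2 hn2
  refine ⟨ho, ?_⟩
  have htopne : (⊤ : Subgroup G) ≠ ⊥ := by
    intro h
    exact hne ((Subgroup.eq_bot_iff_forall _).2 fun x hx =>
      congrArg Subtype.val ((Subgroup.eq_bot_iff_forall _).1 h ⟨x, hx⟩ (Subgroup.mem_top _)))
  obtain ⟨M, hMn, hMne, -, hMmin⟩ := Grp.exists_minimal_normal_le (N := (⊤ : Subgroup G)) htopne
  obtain ⟨hMab, p, hp, hpow⟩ := Grp.minimal_normal_solvable (N := M) inferInstance hMne hMmin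
  haveI := Fact.mk hp
  haveI : Nontrivial M := (Subgroup.nontrivial_iff_ne_bot M).2 hMne
  obtain ⟨ω⟩ : Nonempty α := by
    by_contra hc
    rw [not_nonempty_iff] at hc
    exact htopne ((Subgroup.eq_bot_iff_forall _).2 fun x _ => Subtype.ext (Equiv.ext fun a => (hc.false a).elim))
  obtain ⟨hinf, -, htrM, hcen, -⟩ := Grp.solvable_primitive (Ω := α) hprim M hMne hMmin ω
  set H := MulAction.stabilizer G ω with hH
  -- regular action
  let pt : M → α := fun m => (m : G) • ω
  have hpt : Function.Bijective pt := by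
    refine ⟨fun m k h => ?_, fun a => ?_⟩
    · have : ((k⁻¹ * m : M) : G) ∈ M ⊓ H := ⟨(k⁻¹ * m).2, by
        show ((k⁻¹ * m : M) : G) • ω = ω
        rw [Subgroup.coe_mul, Subgroup.coe_inv, mul_smul, show (m : G) • ω = (k : G) • ω from h, inv_smul_smul]⟩
      rw [hinf, Subgroup.mem_bot] at this
      exact (inv_mul_eq_one.1 (Subtype.ext this : k⁻¹ * m = 1)).symm
    · obtain ⟨m, hm⟩ := htrM.exists_smul_eq ω a
      exact ⟨m, hm⟩
  have hp2 : p ≠ 2 := by
    intro e
    obtain ⟨m, hm⟩ := exists_ne (1 : M)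
    have h2' : orderOf ((m : G)) = p :=
      orderOf_eq_prime (hpow _ m.2) fun h => hm (Subtype.ext h)
    exact Nat.not_even_iff_odd.2 ho ((even_iff_two_dvd).2 (e ▸ h2' ▸ orderOf_dvd_natCard (m : G)))
  letI : CommGroup M := { (inferInstance : Group M) with mul_comm := mul_comm' }
  have hsm : ∀ x : Additive M, p • x = 0 := fun x =>
    Additive.toMul.injective (Subtype.ext (hpow _ (Additive.toMul x).2))
  obtain ⟨modM⟩ : Nonempty (Module (ZMod p) (Additive M)) := ⟨AddCommGroup.zmodModule hsm⟩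
  set f := Module.finrank (ZMod p) (Additive M) with hf
  have hcardV : Nat.card (Additive M) = p ^ f := Recog.HuppertCases.card_V
  have hcardα : Fintype.card α = p ^ f := by
    rw [← hcardV, ← Nat.card_eq_fintype_card, ← Nat.card_eq_of_bijective pt hpt]
    rfl
  have hf0 : f ≠ 0 := fun h0 => by
    rw [h0, pow_zero, Nat.card_eq_one_iff_unique] at hcardV
    exact not_nontrivial_iff_subsingleton.2 hcardV.1 (inferInstance : Nontrivial M)
  -- conjugation
  let cj : H →* MulAut M :=
    { toFun := fun h => MulEquiv.ofBijective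
        (MonoidHom.mk' (fun m : M => (⟨(h : G) * m * (h : G)⁻¹, hMn.conj_mem _ m.2 _⟩ : M))
          fun a b => Subtype.ext (by simp [mul_assoc]))
        ((Finite.injective_iff_bijective).1 fun a b e => Subtype.ext
          (mul_left_cancel (mul_right_cancel (congrArg Subtype.val e))))
      map_one' := MulEquiv.ext fun m => Subtype.ext (by simp)
      map_mul' := fun a b => MulEquiv.ext fun m => Subtype.ext (by simp [mul_assoc]) }
  let lin := linHom (p := p) (M := M)
  let sgn : ℤˣ →* MulAut M :=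
    { toFun := fun ε => if ε = 1 then 1 else MulEquiv.inv M
      map_one' := if_pos rfl
      map_mul' := fun a b => by
        rcases Int.units_eq_one_or a with rfl | rfl <;> rcases Int.units_eq_one_or b with rfl | rfl <;>
          · refine MulEquiv.ext fun m => ?_
            simp }
  let ρ :=
    lin.comp (cj.noncommCoprod sgn fun h ε => MulEquiv.ext fun m => by
      rcases Int.units_eq_one_or ε with rfl | rfl <;> simp [sgn, map_inv])
  have hρv : ∀ (h : H) (m : M), ((Additive.toMul (ρ (h, 1) (Additive.ofMul m)) : M) : G) = (h : G) * m * (h : G)⁻¹ :=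
    fun h m => by simp [ρ, lin, linHom, cj, sgn, MonoidHom.noncommCoprod]
  have hρm : ∀ (h : H) (m : M),
      ((Additive.toMul (ρ (h, -1) (Additive.ofMul m)) : M) : G) = (h : G) * (m : G)⁻¹ * (h : G)⁻¹ := fun h m => by
    simp [ρ, lin, linHom, cj, sgn, MonoidHom.noncommCoprod, mul_assoc]
  have hsq : ∀ h : G, h * h = 1 → h = 1 := fun h hh => by
    have h1 : orderOf h ∣ 2 := orderOf_dvd_of_pow_eq_one (by rw [pow_two, hh])
    rcases (Nat.dvd_prime Nat.prime_two).1 h1 with e | e
    · exact orderOf_eq_one_iff.1 e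
    · exact absurd (e ▸ orderOf_dvd_natCard h) (by
        rw [← even_iff_two_dvd]; exact Nat.not_even_iff_odd.2 ho)
  have hH1 : ∀ h : H, (∀ m : M, (h : G) * m * (h : G)⁻¹ = m) → h = 1 := fun h hh => by
    have : (h : G) ∈ H ⊓ Subgroup.centralizer (M : Set G) :=
      ⟨h.2, Subgroup.mem_centralizer_iff.2 fun y hy => (mul_inv_eq_iff_eq_mul.1 (hh ⟨y, hy⟩)).symm⟩
    rw [hcen, Subgroup.mem_bot] at this
    exact Subtype.ext this
  have hinj : Function.Injective ρ := by
    rw [injective_iff_map_eq_one]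
    rintro ⟨h, ε⟩ hh
    have hm : ∀ m : M, Additive.toMul (ρ (h, ε) (Additive.ofMul m)) = m := fun m => by rw [hh]; rfl
    rcases Int.units_eq_one_or ε with rfl | rfl
    · rw [hH1 h fun m => (hρv h m).symm.trans (congrArg Subtype.val (hm m))]; rfl
    · exfalso
      have h1 : ∀ m : M, (h : G) * (m : G)⁻¹ * (h : G)⁻¹ = m := fun m =>
        (hρm h m).symm.trans (congrArg Subtype.val (hm m))
      have hh2 : h * h = 1 := hH1 _ fun m => by
        calc ((h * h : H) : G) * m * ((h * h : H) : G)⁻¹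
            = (h : G) * ((h : G) * (m : G)⁻¹ * (h : G)⁻¹)⁻¹ * (h : G)⁻¹ := by simp [mul_assoc]
          _ = m := by rw [h1 m, h1 m]
      have hh1 : (h : G) = 1 := hsq _ (congrArg Subtype.val hh2)
      obtain ⟨m, hm'⟩ := exists_ne (1 : M)
      have e := h1 m
      rw [hh1, one_mul, inv_one, mul_one] at e
      refine hm' (Subtype.ext (hsq _ ?_))
      nth_rw 1 [← e]
      exact inv_mul_cancel _
  have key : ∀ v w : M, v ≠ 1 → w ≠ 1 →
      ∃ h : H, (h : G) * v * (h : G)⁻¹ = w ∨ (h : G) * v * (h : G)⁻¹ = (w : G)⁻¹ := by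
    intro v w hv hw
    have hne' : ∀ {v : M}, v ≠ 1 → ω ≠ (v : G) • ω := fun {v} hv e =>
      hv (hpt.1 (show pt v = pt 1 from e.symm.trans (one_smul G ω).symm))
    have hback : ∀ (h : H) (u : M), ((h : G) * (v : G)) • ω = (u : G) • ω → (h : G) * v * (h : G)⁻¹ = u := by
      intro h u e
      have e2 : pt ⟨(h : G) * v * (h : G)⁻¹, hMn.conj_mem _ v.2 _⟩ = pt u := by
        show ((h : G) * v * (h : G)⁻¹) • ω = (u : G) • ω
        rw [mul_smul ((h : G) * v), show ((h : G)⁻¹) • ω = ω from inv_mem h.2]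
        exact e
      exact congrArg Subtype.val (hpt.1 e2)
    obtain ⟨g, hg | hg⟩ := move h2 (hne' hv) (hne' hw)
    · exact ⟨⟨g, hg.1⟩, Or.inl (hback ⟨g, hg.1⟩ w (by rw [mul_smul]; exact hg.2))⟩
    · refine ⟨⟨(w : G)⁻¹ * g, ?_⟩, Or.inr (hback _ w⁻¹ ?_)⟩
      · rw [hH, MulAction.mem_stabilizer_iff, mul_smul, hg.1, inv_smul_smul]
      · show ((w : G)⁻¹ * g * v) • ω = ((w⁻¹ : M) : G) • ω
        rw [Subgroup.coe_inv, mul_smul, mul_smul, hg.2]
  have htrans : ∀ v w : Additive M, v ≠ 0 → w ≠ 0 → ∃ g : H × ℤˣ, ρ g v = w := by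
    intro v w hv hw
    obtain ⟨h, hh | hh⟩ := key (Additive.toMul v) (Additive.toMul w) hv hw
    · exact ⟨(h, 1), Additive.toMul.injective (Subtype.ext ((hρv h _).trans hh))⟩
    · refine ⟨(h, -1), Additive.toMul.injective (Subtype.ext ((hρm h (Additive.toMul v)).trans ?_))⟩
      rw [← conj_inv, hh, inv_inv]
  have hmod : p ^ f % 4 = 3 := by
    obtain ⟨v, hv⟩ := exists_ne (1 : M)
    let O : Set M := Set.range fun h : H => cj h v
    have hno : ∀ h : H, cj h v ≠ v⁻¹ := by
      intro h e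
      have e1 : (h : G) * v * (h : G)⁻¹ = (v : G)⁻¹ := congrArg Subtype.val e
      have e2 : ∀ n : ℕ, (h : G) ^ (2 * n) * v * ((h : G) ^ (2 * n))⁻¹ = v := by
        intro n
        induction n with
        | zero => simp
        | succ n ih =>
          calc (h : G) ^ (2 * (n + 1)) * v * ((h : G) ^ (2 * (n + 1)))⁻¹
              = (h : G) * ((h : G) * ((h : G) ^ (2 * n) * v * ((h : G) ^ (2 * n))⁻¹) * (h : G)⁻¹) * (h : G)⁻¹ := by
                rw [show 2 * (n + 1) = 2 + 2 * n by ring, pow_add, pow_two]; group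
            _ = (h : G) * (v : G)⁻¹ * (h : G)⁻¹ := by rw [ih, e1]
            _ = v := by rw [← conj_inv, e1, inv_inv]
      obtain ⟨k, hk⟩ := ho
      have e3 := e2 (k + 1)
      rw [show 2 * (k + 1) = Nat.card G + 1 by omega, pow_succ, pow_card_eq_one', one_mul, e1] at e3
      exact hv (Subtype.ext (hsq _ (by rw [← e3]; nth_rw 2 [e3]; exact inv_mul_cancel _)))
    have hcov : ({1}ᶜ : Set M) = O ∪ O⁻¹ := by
      ext w
      simp only [Set.mem_compl_iff, Set.mem_singleton_iff, Set.mem_union, Set.mem_inv, O, Set.mem_range]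
      constructor
      · intro hw
        obtain ⟨h, hh | hh⟩ := key v w hv hw
        exacts [Or.inl ⟨h, Subtype.ext hh⟩, Or.inr ⟨h, Subtype.ext hh⟩]
      · rintro (⟨h, e⟩ | ⟨h, e⟩) rfl
        · exact hv ((cj h).injective (e.trans (map_one _).symm))
        · exact hv ((cj h).injective (e.trans (inv_one.trans (map_one (cj h)).symm)))
    have hdis : Disjoint O O⁻¹ := by
      rw [Set.disjoint_left]
      rintro w ⟨a, rfl⟩ ⟨b, hb⟩
      refine hno (a⁻¹ * b) ?_
      rw [map_mul, map_inv, MulAut.mul_apply, show cj b v = (cj a v)⁻¹ from hb, map_inv,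
        ← MulAut.mul_apply, inv_mul_cancel, MulAut.one_apply]
    have hoO : Odd O.ncard := by
      letI : MulAction H M := MulAction.compHom M cj
      have e : O = MulAction.orbit H v := rfl
      rw [e, ← Nat.card_coe_set_eq]
      refine Odd.of_dvd_nat ho (dvd_trans ?_ H.card_subgroup_dvd_card)
      rw [Nat.card_congr (MulAction.orbitEquivQuotientStabilizer H v)]
      exact Subgroup.card_quotient_dvd_card _
    have hc1 : ({1}ᶜ : Set M).ncard = p ^ f - 1 := by
      rw [Set.ncard_compl, Set.ncard_singleton, ← hcardV]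
      rfl
    rw [hcov, Set.ncard_union_eq hdis, ← Set.image_inv_eq_inv,
      Set.ncard_image_of_injective _ inv_injective] at hc1
    obtain ⟨k, hk⟩ := hoO
    have : 0 < p ^ f := pow_pos hp.pos f
    omega
  haveI : Group.IsSolvable (H × ℤˣ) := inferInstance
  rcases S3360.result p (G := H × ℤˣ) inferInstance ρ hinj htrans with ⟨F, _, _, e₀, he₀⟩ | hbad
  swap
  · exfalso
    rw [hcardV] at hbad
    simp only [Set.mem_insert_iff, Set.mem_singleton_iff] at hbad
    omega
  letI : Fintype (GaloisField p f) := Fintype.ofFinite _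
  have hcardF : Fintype.card F = Fintype.card (GaloisField p f) := by
    rw [← Nat.card_eq_fintype_card, ← Nat.card_eq_fintype_card, GaloisField.card p f hf0, ← hcardV,
      Nat.card_congr e₀.toEquiv]
  let r := FiniteField.ringEquivOfCardEq hcardF
  let e : α ≃ GaloisField p f :=
    ((Equiv.ofBijective pt hpt).symm.trans Additive.ofMul).trans (e₀.toEquiv.trans r.toEquiv)
  have he : ∀ m : M, e (pt m) = r (e₀ (Additive.ofMul m)) := fun m => by
    show r (e₀ (Additive.ofMul ((Equiv.ofBijective pt hpt).symm (Equiv.ofBijective pt hpt m)))) = _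
    rw [Equiv.symm_apply_apply]
  refine ⟨p, f, inferInstance, hp2, hcardα, hmod, e, fun g => ?_, fun b => ?_⟩
  · obtain ⟨m, hm⟩ := hpt.2 (g • ω)
    have hh : ((m : G)⁻¹ * g) ∈ H := by
      rw [hH, MulAction.mem_stabilizer_iff, mul_smul, ← hm]; exact inv_smul_smul _ _
    set h : H := ⟨(m : G)⁻¹ * g, hh⟩
    obtain ⟨a, σ, haσ⟩ := he₀ (h, 1)
    have ha : a ≠ 0 := by
      intro h0
      obtain ⟨v, hv⟩ := exists_ne (0 : Additive M)
      refine hv ((ρ (h, 1)).injective (e₀.injective ?_))
      rw [haσ, h0, zero_mul, map_zero, map_zero]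
    refine ⟨Units.mk0 (r a) ((map_ne_zero_iff _ r.injective).2 ha), r (e₀ (Additive.ofMul m)),
      (r.symm.trans σ).trans r, fun x => ?_⟩
    obtain ⟨y, hy⟩ := e.surjective x
    subst hy
    obtain ⟨v, rfl⟩ := hpt.2 y
    show e (g • e.symm (e (pt v))) = _
    rw [Equiv.symm_apply_apply, show g • pt v = pt (m * Additive.toMul (ρ (h, 1) (Additive.ofMul v))) from ?_]
    · rw [he, he, ofMul_mul, ofMul_toMul, map_add, map_add, haσ, map_mul, Units.val_mk0, RingEquiv.trans_apply,
        RingEquiv.trans_apply, RingEquiv.symm_apply_apply, add_comm]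
    · show g • (v : G) • ω = _ • ω
      rw [Subgroup.coe_mul, hρv, ← mul_smul, mul_smul ((m : G)), mul_smul ((h : G) * (v : G)),
        show ((h : G)⁻¹) • ω = ω from inv_mem h.2, ← mul_smul]
      congr 1
      show g * v = (m : G) * ((m : G)⁻¹ * g * v)
      group
  · refine ⟨((Additive.toMul (e₀.symm (r.symm b)) : M) : G), fun x => ?_⟩
    obtain ⟨v, rfl⟩ := hpt.2 x
    show e (((Additive.toMul (e₀.symm (r.symm b)) : M) : G) • pt v) = _
    rw [show ((Additive.toMul (e₀.symm (r.symm b)) : M) : G) • pt v = pt (Additive.toMul (e₀.symm (r.symm b)) * v) from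
      smul_smul _ _ _, he, he, ofMul_mul, ofMul_toMul, map_add, map_add, AddEquiv.apply_symm_apply,
      RingEquiv.apply_symm_apply, add_comm]

end Cfsg.Agent.OddUse.Kantor
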