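import Cfsg.Agent.Lib.OddUse.StandardSubgroup

/-!
# One component when cyclic subgroups of equal prime power order are conjugate
-/

set_option autoImplicit false

namespace Cfsg.Agent.OddUse

open scoped Pointwise
open Subgroup Cfsg.Agent.Grp

universe u

/-- A component has a non-central 2-element. -/
theorem exists_noncentral_two {G : Type u} [Group G] [Finite G]
    (hFT : ∀ (K : Type u) [Group K] [Finite K], Odd (Nat.card K) → Group.IsSolvable K)
    {L : Subgroup G} (hq : Cfsg.IsQuasisimple ↥L) :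
    ∃ n : ℕ, ∃ x ∈ L, orderOf x = 2 ^ n ∧ ¬ x ∈ Subgroup.centralizer (L : Set G) := by
  haveI : Fact (Nat.Prime 2) := ⟨Nat.prime_two⟩
  obtain ⟨P⟩ : Nonempty (Sylow 2 ↥L) := Sylow.nonempty
  by_contra hno
  push Not at hno
  have hle : (P : Subgroup ↥L) ≤ Subgroup.center ↥L := by
    intro x hx
    obtain ⟨n, hn⟩ := (IsPGroup.iff_orderOf.1 P.isPGroup') ⟨x, hx⟩
    rw [Subgroup.orderOf_mk] at hn
    refine Subgroup.mem_center_iff.2 fun y => Subtype.ext ?_
    exact Subgroup.mem_centralizer_iff.1 (hno n (x : G) x.2 (by rw [Subgroup.orderOf_coe]; exact hn)) y y.2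
  haveI := hq.2
  have hodd : Odd (Nat.card (↥L ⧸ Subgroup.center ↥L)) := by
    rw [← Subgroup.index_eq_card, Nat.odd_iff, ← Nat.two_dvd_ne_zero]
    exact fun h => P.not_dvd_index (h.trans (Subgroup.index_dvd_of_le hle))
  haveI := hFT _ hodd
  haveI : Group.IsSolvable (Subgroup.center ↥L) :=
    Group.isSolvable_of_comm fun p q => Subtype.ext (Subgroup.mem_center_iff.1 q.2 p)
  refine IsQuasisimple.not_isSolvable hq ?_
  exact solvable_of_ker_le_range (Subgroup.center ↥L).subtype (QuotientGroup.mk' (Subgroup.center ↥L))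
    (by rw [QuotientGroup.ker_mk', Subgroup.range_subtype])

/-- The layer is a single component modulo its centre. -/
theorem layer_mod_center_simple {G : Type u} [Group G] [Finite G]
    (hFT : ∀ (K : Type u) [Group K] [Finite K], Odd (Nat.card K) → Group.IsSolvable K)
    (hP : ∀ (p : ℕ), p.Prime → ∀ A B : Subgroup G, IsCyclic ↥A → IsCyclic ↥B → IsPGroup p ↥A →
      Nat.card ↥A = Nat.card ↥B → ∃ g : G, B = A.map (MulAut.conj g).toMonoidHom)
    (hE : Cfsg.layer G ≠ ⊥) :
    IsSimpleGroup (↥(Cfsg.layer G) ⧸ Subgroup.center ↥(Cfsg.layer G)) ∧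
      ¬ IsMulCommutative (↥(Cfsg.layer G) ⧸ Subgroup.center ↥(Cfsg.layer G)) := by
  haveI : Fact (Nat.Prime 2) := ⟨Nat.prime_two⟩
  obtain ⟨L, hL⟩ : ∃ L : Subgroup G, Cfsg.IsComponent L := by
    by_contra h
    push Not at h
    exact hE (le_bot_iff.1 (sSup_le fun J hJ => absurd hJ (h J)))
  have hone : ∀ M : Subgroup G, Cfsg.IsComponent M → M = L := by
    by_contra hno
    push Not at hno
    obtain ⟨M, hM, hML⟩ := hno
    -- components with least orders of non-central 2-elements
    suffices main : ∀ (L M : Subgroup G), Cfsg.IsComponent L → Cfsg.IsComponent M → L ≠ M → ∀ (a b : ℕ) (x y : G),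
        x ∈ L → y ∈ M → orderOf x = 2 ^ a → orderOf y = 2 ^ b → x ∉ Subgroup.centralizer (L : Set G) →
        y ∉ Subgroup.centralizer (M : Set G) → a ≤ b →
        (∀ n, ∀ z ∈ L, orderOf z = 2 ^ n → z ∉ Subgroup.centralizer (L : Set G) → a ≤ n) → False by
      classical
      obtain ⟨hL', hM'⟩ := And.intro (exists_noncentral_two hFT hL.2) (exists_noncentral_two hFT hM.2)
      obtain ⟨x, hx, hxo, hxc⟩ := Nat.find_spec hL'
      obtain ⟨y, hy, hyo, hyc⟩ := Nat.find_spec hM'
      rcases le_total (Nat.find hL') (Nat.find hM') with h | h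
      · exact main L M hL hM (Ne.symm hML) _ _ x y hx hy hxo hyo hxc hyc h
          fun n z hz hzo hzc => Nat.find_min' hL' ⟨z, hz, hzo, hzc⟩
      · exact main M L hM hL hML _ _ y x hy hx hyo hxo hyc hxc h
          fun n z hz hzo hzc => Nat.find_min' hM' ⟨z, hz, hzo, hzc⟩
    intro L M hL hM hne a b x y hx hy hxa hyb hxc hyc hab hmin
    have hLM : L ≤ Subgroup.centralizer (M : Set G) := IsComponent.commute hL hM hne
    have hML' : M ≤ Subgroup.centralizer (L : Set G) := IsComponent.commute hM hL (Ne.symm hne)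
    have hcom : Commute x y := (Subgroup.mem_centralizer_iff.1 (hLM hx) y hy).symm
    have hwL : x * y ∉ Subgroup.centralizer (L : Set G) := fun h => hxc (by
      have := (Subgroup.centralizer (L : Set G)).mul_mem h ((Subgroup.centralizer (L : Set G)).inv_mem (hML' hy))
      rwa [mul_inv_cancel_right] at this)
    have hwM : x * y ∉ Subgroup.centralizer (M : Set G) := fun h => hyc (by
      have := (Subgroup.centralizer (M : Set G)).mul_mem ((Subgroup.centralizer (M : Set G)).inv_mem (hLM hx)) h
      rwa [inv_mul_cancel_left] at this)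
    have hord : orderOf (x * y) ∣ 2 ^ b := orderOf_dvd_of_pow_eq_one (by
      rw [hcom.mul_pow, orderOf_dvd_iff_pow_eq_one.1 (hxa ▸ pow_dvd_pow 2 hab : orderOf x ∣ 2 ^ b),
        orderOf_dvd_iff_pow_eq_one.1 (hyb.dvd : orderOf y ∣ 2 ^ b), one_mul])
    obtain ⟨c, hcb, hc⟩ := (Nat.dvd_prime_pow Nat.prime_two).1 hord
    -- a generator-wise form of conjugacy
    have hconj : ∀ v : G, orderOf v = orderOf (x * y) → ∃ g : G, ∀ T : Subgroup G,
        v ∈ Subgroup.centralizer (T : Set G) → x * y ∈ Subgroup.centralizer (MulAut.conj g • T : Set G) := by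
      intro v hv
      obtain ⟨i, hi⟩ : ∃ i, orderOf v = 2 ^ i := ⟨c, hv.trans hc⟩
      obtain ⟨g, hg⟩ := hP 2 Nat.prime_two (Subgroup.zpowers v) (Subgroup.zpowers (x * y)) inferInstance inferInstance
        (IsPGroup.of_card (n := i) (by rw [Nat.card_zpowers, hi])) (by rw [Nat.card_zpowers, Nat.card_zpowers, hv])
      refine ⟨g, fun T hT => ?_⟩
      have hmem : x * y ∈ (Subgroup.zpowers v).map (MulAut.conj g).toMonoidHom := hg ▸ Subgroup.mem_zpowers _
      obtain ⟨w, hw, hwe⟩ := hmem
      rw [← hwe]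
      refine Subgroup.mem_centralizer_iff.2 fun u hu => ?_
      have hwT : w ∈ Subgroup.centralizer (T : Set G) := Subgroup.zpowers_le.2 hT hw
      rw [← Subgroup.coe_pointwise_smul, SetLike.mem_coe, mem_smul_conj] at hu
      have := Subgroup.mem_centralizer_iff.1 hwT _ hu
      simp only [MulEquiv.coe_toMonoidHom, MulAut.conj_apply]
      calc u * (g * w * g⁻¹) = g * ((g⁻¹ * u * g) * w) * g⁻¹ := by group
        _ = g * (w * (g⁻¹ * u * g)) * g⁻¹ := by rw [this]
        _ = g * w * g⁻¹ * u := by group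
    by_cases hcb' : c = b
    · obtain ⟨g, hg⟩ := hconj y (by rw [hyb, hc, hcb'])
      have hkey : ∀ N : Subgroup G, Cfsg.IsComponent N → x * y ∉ Subgroup.centralizer (N : Set G) →
          MulAut.conj g⁻¹ • N = M := by
        intro N hN hwN
        by_contra hne'
        refine hwN ?_
        have h1 : y ∈ Subgroup.centralizer ((MulAut.conj g⁻¹ • N : Subgroup G) : Set G) :=
          IsComponent.commute hM (IsComponent.conj hN g⁻¹) (Ne.symm hne') hy
        have h2 := hg _ h1
        rwa [← Subgroup.coe_pointwise_smul, smul_smul, ← map_mul, mul_inv_cancel, map_one, one_smul] at h2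
      exact hne (smul_left_cancel _ ((hkey L hL hwL).trans (hkey M hM hwM).symm))
    · have hclt : c < b := lt_of_le_of_ne hcb hcb'
      have hab' : a = b := by
        by_contra h
        have halt : a < b := lt_of_le_of_ne hab h
        have h1 : (x * y) ^ 2 ^ (b - 1) = 1 := orderOf_dvd_iff_pow_eq_one.1 (hc ▸ pow_dvd_pow 2 (by omega))
        rw [hcom.mul_pow, orderOf_dvd_iff_pow_eq_one.1 (hxa ▸ pow_dvd_pow 2 (show a ≤ b - 1 by omega)), one_mul] at h1
        have h2 := orderOf_dvd_of_pow_eq_one h1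
        rw [hyb] at h2
        have := (Nat.pow_dvd_pow_iff_le_right (by norm_num : 1 < 2)).1 h2
        omega
      have hvo : orderOf (x ^ 2 ^ (a - c)) = 2 ^ c := by
        rw [orderOf_pow' _ (pow_pos two_pos _).ne', hxa, Nat.gcd_eq_right (pow_dvd_pow 2 (Nat.sub_le a c)),
          Nat.pow_div (Nat.sub_le a c) two_pos, show a - (a - c) = c by omega]
      obtain ⟨g, hg⟩ := hconj (x ^ 2 ^ (a - c)) (hvo.trans hc.symm)
      have hv : ∀ N : Subgroup G, Cfsg.IsComponent N → x ^ 2 ^ (a - c) ∈ Subgroup.centralizer (N : Set G) := by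
        intro N hN
        by_cases hNL : N = L
        · subst hNL
          by_contra h
          have := hmin c _ (N.pow_mem hx _) hvo h
          omega
        · exact Subgroup.pow_mem _ (IsComponent.commute hL hN (Ne.symm hNL) hx) _
      refine hwL ?_
      have h2 := hg _ (hv _ (IsComponent.conj hL g⁻¹))
      rwa [← Subgroup.coe_pointwise_smul, smul_smul, ← map_mul, mul_inv_cancel, map_one, one_smul] at h2
  have hEL : Cfsg.layer G = L := le_antisymm (sSup_le fun M hM => (hone M hM).le) (IsComponent.le_layer hL)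
  rw [hEL]
  refine ⟨hL.2.2, fun h => IsQuasisimple.not_isSolvable hL.2 ?_⟩
  haveI : Group.IsSolvable (Subgroup.center ↥L) :=
    Group.isSolvable_of_comm fun p q => Subtype.ext (Subgroup.mem_center_iff.1 q.2 p)
  haveI : Group.IsSolvable (↥L ⧸ Subgroup.center ↥L) := Group.isSolvable_of_comm fun p q => h.is_comm.comm p q
  exact solvable_of_ker_le_range (Subgroup.center ↥L).subtype (QuotientGroup.mk' (Subgroup.center ↥L))
    (by rw [QuotientGroup.ker_mk', Subgroup.range_subtype])

end Cfsg.Agent.OddUse
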