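import Cfsg.Agent.Lib.OddUse.ClassTwoPart
import Cfsg.Agent.Lib.Transfer.Frobenius
import Cfsg.Agent.Lib.Transfer.SquareFree.Counting
import Cfsg.Agent.Lib.Grp.Frattini

/-!
# Non-central real classes with one 2-part, with real elements of a Sylow 2-subgroup central

If all non-central real elements have class sizes with the same 2-part and every element of a
Sylow 2-subgroup `S` which is real in `S` is central in `S`, the subgroup generated by the
2-elements has a normal 2-complement, and the group is solvable modulo solvability in odd order.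
-/

set_option autoImplicit false
set_option linter.style.haveILetI false

open scoped commutatorElement

namespace Cfsg.Agent.RealTwoPart

open Cfsg Subgroup

universe u

variable {G : Type u} [Group G] [Finite G]

omit [Finite G] in
theorem conj_commutator (g a b : G) :
    g * ⁅a, b⁆ * g⁻¹ = ⁅g * a * g⁻¹, g * b * g⁻¹⁆ := by
  simp only [commutatorElement_def]; group

/-- An element of odd order normalizing a 2-subgroup centralizes it, if involutions are central
and elements of a 2-subgroup which are real there are central there. -/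
theorem centralizes (hinv : ∀ t : G, t ^ 2 = 1 → t ∈ center G)
    (hreal : ∀ U : Subgroup G, IsPGroup 2 U → ∀ y ∈ U, (∃ u ∈ U, u * y * u⁻¹ = y⁻¹) →
      ∀ v ∈ U, v * y = y * v) :
    ∀ (n : ℕ) (U : Subgroup G), Nat.card U = n → IsPGroup 2 U → ∀ g : G, (orderOf g).Coprime 2 →
      (∀ u ∈ U, g * u * g⁻¹ ∈ U) → ∀ u ∈ U, g * u * g⁻¹ = u := by
  haveI : Fact (Nat.Prime 2) := ⟨Nat.prime_two⟩
  intro n
  induction n using Nat.strong_induction_on with
  | _ n ih =>
  intro U hn hU g hg hinvU y hyU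
  by_contra hy
  have hfix : ∀ V : Subgroup G, V ≤ U → V ≠ U → (∀ v ∈ V, g * v * g⁻¹ ∈ V) →
      ∀ v ∈ V, g * v * g⁻¹ = v := by
    intro V hle hne hinvV
    refine ih _ ?_ V rfl (hU.to_le hle) g hg hinvV
    rw [← hn]
    exact lt_of_le_of_ne (card_le_of_le hle) fun he => hne (eq_of_le_of_card_ge hle he.ge)
  -- coprime action: a fixed quotient `x⁻¹ x^g` means a fixed element
  have hstep : ∀ x ∈ U, g * (g * x * g⁻¹ * x⁻¹) * g⁻¹ = g * x * g⁻¹ * x⁻¹ → g * x * g⁻¹ = x :=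
    fun x hx h => Transfer.SquareFree.conj_eq_self_of_step hU hg
      (U.mul_mem (hinvU x hx) (U.inv_mem hx)) (mul_inv_eq_iff_eq_mul.1 h)
  -- an invariant subgroup containing all `x^g x⁻¹` is everything
  have htop : ∀ V : Subgroup G, V ≤ U → (∀ v ∈ V, g * v * g⁻¹ ∈ V) →
      (∀ x ∈ U, g * x * g⁻¹ * x⁻¹ ∈ V) → V = U := by
    intro V hle hinvV hall
    by_contra hne
    exact hy (hstep y hyU (hfix V hle hne hinvV _ (hall y hyU)))
  -- the Frattini subgroup of `U` is fixed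
  have hΦ : ∀ v : U, v ∈ frattini U → g * (v : G) * g⁻¹ = v := by
    intro v hv
    refine hfix ((frattini U).map U.subtype) (map_subtype_le _) ?_ ?_ _ ⟨v, hv, rfl⟩
    · intro he
      have h1 : frattini U = ⊤ := map_injective U.subtype_injective (by
        rw [he, ← MonoidHom.range_eq_map, range_subtype])
      haveI : Nontrivial U := ⟨⟨⟨y, hyU⟩, 1, fun e => hy (by
        rw [show y = 1 from congrArg Subtype.val e]; group)⟩⟩
      obtain ⟨M, hM, -⟩ := (eq_top_or_exists_le_coatom (⊥ : Subgroup U)).resolve_left bot_ne_top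
      exact hM.1 (top_le_iff.1 (h1 ▸ frattini_le_coatom hM))
    · rintro _ ⟨w, hw, rfl⟩
      let e : U ≃* U :=
        { toFun := fun u => ⟨g * u * g⁻¹, hinvU u u.2⟩
          invFun := fun u => ⟨g⁻¹ * u * g, by
            have hmap : U.map (MulAut.conj g).toMonoidHom = U := eq_of_le_of_card_ge
              (by rintro _ ⟨z, hz, rfl⟩; exact hinvU z hz)
              (le_of_eq (card_map_of_injective (MulAut.conj g).injective).symm)
            obtain ⟨z, hz, hze⟩ := hmap.ge u.2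
            rw [← hze]
            simpa [mul_assoc] using hz⟩
          left_inv := fun u => Subtype.ext (by simp [mul_assoc])
          right_inv := fun u => Subtype.ext (by simp [mul_assoc])
          map_mul' := fun a b => Subtype.ext (by simp [mul_assoc]) }
      exact ⟨e w, Subgroup.characteristic_iff_map_le.1 inferInstance e (mem_map_of_mem _ hw), rfl⟩
  have hcomm : ∀ a ∈ U, ∀ b ∈ U, g * ⁅a, b⁆ * g⁻¹ = ⁅a, b⁆ := fun a ha b hb =>
    hΦ ⁅(⟨a, ha⟩ : U), ⟨b, hb⟩⁆ (Grp.pGroup_commutator_le_frattini hU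
      (_root_.commutator_def U ▸ commutator_mem_commutator (mem_top _) (mem_top _)))
  have hsq : ∀ a ∈ U, g * a ^ 2 * g⁻¹ = a ^ 2 := fun a ha =>
    hΦ ((⟨a, ha⟩ : U) ^ 2) (Grp.pGroup_pow_mem_frattini hU _)
  -- commutators are central in `U`
  have hcen : ∀ a ∈ U, ∀ b ∈ U, ∀ w ∈ U, w * ⁅a, b⁆ = ⁅a, b⁆ * w := by
    let M : Subgroup G := U ⊓ centralizer {z | ∃ a ∈ U, ∃ b ∈ U, z = ⁅a, b⁆}
    have hM : M = U := by
      refine htop M inf_le_left (fun v hv => ⟨hinvU v hv.1, ?_⟩) fun x hx => ⟨U.mul_mem (hinvU x hx) (U.inv_mem hx), ?_⟩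
      · rintro _ ⟨a, ha, b, hb, rfl⟩
        have h1 : ⁅a, b⁆ * v = v * ⁅a, b⁆ := hv.2 _ ⟨a, ha, b, hb, rfl⟩
        calc ⁅a, b⁆ * (g * v * g⁻¹) = g * (⁅a, b⁆ * v) * g⁻¹ := by
              conv_lhs => rw [← hcomm a ha b hb]
              group
          _ = g * (v * ⁅a, b⁆) * g⁻¹ := by rw [h1]
          _ = g * v * g⁻¹ * ⁅a, b⁆ := by
              conv_rhs => rw [← hcomm a ha b hb]
              group
      · rintro _ ⟨a, ha, b, hb, rfl⟩
        -- both `x` and its image act alike on the fixed commutators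
        have h1 : x⁻¹ * ⁅a, b⁆ * x = ⁅x⁻¹ * a * x, x⁻¹ * b * x⁆ := by
          simpa using conj_commutator x⁻¹ a b
        have h2 := hcomm _ (U.mul_mem (U.mul_mem (U.inv_mem hx) ha) hx) _
          (U.mul_mem (U.mul_mem (U.inv_mem hx) hb) hx)
        rw [← h1] at h2
        have h3 : g * (x⁻¹ * ⁅a, b⁆ * x) * g⁻¹ = (g * x * g⁻¹)⁻¹ * ⁅a, b⁆ * (g * x * g⁻¹) := by
          conv_rhs => rw [← hcomm a ha b hb]
          group
        rw [h3] at h2
        calc ⁅a, b⁆ * (g * x * g⁻¹ * x⁻¹)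
            = (g * x * g⁻¹) * ((g * x * g⁻¹)⁻¹ * ⁅a, b⁆ * (g * x * g⁻¹)) * x⁻¹ := by group
          _ = (g * x * g⁻¹) * (x⁻¹ * ⁅a, b⁆ * x) * x⁻¹ := by rw [h2]
          _ = g * x * g⁻¹ * x⁻¹ * ⁅a, b⁆ := by group
    intro a ha b hb w hw
    exact ((hM.ge hw).2 _ ⟨a, ha, b, hb, rfl⟩).symm
  -- the subgroup `[y, U]`
  have hmul : ∀ a ∈ U, ∀ b ∈ U, ∀ c ∈ U, ⁅a, b * c⁆ = ⁅a, b⁆ * ⁅a, c⁆ := fun a ha b hb c hc => by
    rw [show ⁅a, b * c⁆ = ⁅a, b⁆ * (b * ⁅a, c⁆ * b⁻¹) by simp only [commutatorElement_def]; group,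
      hcen a ha c hc b hb]
    group
  let K : Subgroup G :=
    { carrier := {z | ∃ u ∈ U, ⁅y, u⁆ = z}
      one_mem' := ⟨1, U.one_mem, commutatorElement_one_right y⟩
      mul_mem' := by
        rintro _ _ ⟨a, ha, rfl⟩ ⟨b, hb, rfl⟩
        exact ⟨a * b, U.mul_mem ha hb, hmul y hyU a ha b hb⟩
      inv_mem' := by
        rintro _ ⟨a, ha, rfl⟩
        refine ⟨a⁻¹, U.inv_mem ha, eq_inv_of_mul_eq_one_left ?_⟩
        rw [← hmul y hyU a⁻¹ (U.inv_mem ha) a ha, inv_mul_cancel, commutatorElement_one_right] }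
  have hKfix : ∀ z ∈ K, g * z * g⁻¹ = z := by
    rintro _ ⟨u, hu, rfl⟩
    exact hcomm y hyU u hu
  have hKc : ∀ z ∈ K, ∀ w ∈ U, w * z = z * w := by
    rintro _ ⟨u, hu, rfl⟩
    exact hcen y hyU u hu
  -- every commutator lies in `K`
  have hmul' : ∀ a ∈ U, ∀ b ∈ U, ∀ c ∈ U, ⁅a * b, c⁆ = ⁅a, c⁆ * ⁅b, c⁆ := fun a ha b hb c hc => by
    rw [show ⁅a * b, c⁆ = a * ⁅b, c⁆ * a⁻¹ * ⁅a, c⁆ by simp only [commutatorElement_def]; group,
      hcen b hb c hc a ha, mul_inv_cancel_right, hcen a ha c hc _ (by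
        rw [commutatorElement_def]
        exact U.mul_mem (U.mul_mem (U.mul_mem hb hc) (U.inv_mem hb)) (U.inv_mem hc))]
  let Z : Subgroup G :=
    { carrier := {w | w ∈ U ∧ ∀ u ∈ U, ⁅w, u⁆ ∈ K}
      one_mem' := ⟨U.one_mem, fun u _ => by rw [commutatorElement_one_left]; exact K.one_mem⟩
      mul_mem' := fun {a b} ha hb => ⟨U.mul_mem ha.1 hb.1, fun u hu => by
        rw [hmul' a ha.1 b hb.1 u hu]; exact K.mul_mem (ha.2 u hu) (hb.2 u hu)⟩
      inv_mem' := fun {a} ha => ⟨U.inv_mem ha.1, fun u hu => by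
        have h1 := hmul' a⁻¹ (U.inv_mem ha.1) a ha.1 u hu
        rw [inv_mul_cancel, commutatorElement_one_left] at h1
        rw [eq_inv_of_mul_eq_one_left h1.symm]
        exact K.inv_mem (ha.2 u hu)⟩ }
  have hinvU' : ∀ u ∈ U, g⁻¹ * u * g ∈ U := fun u hu => by
    have hmap : U.map (MulAut.conj g).toMonoidHom = U := eq_of_le_of_card_ge
      (by rintro _ ⟨z, hz, rfl⟩; exact hinvU z hz)
      (le_of_eq (card_map_of_injective (MulAut.conj g).injective).symm)
    obtain ⟨z, hz, hze⟩ := hmap.ge hu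
    rw [← hze]
    simpa [mul_assoc] using hz
  have hZ : Z = U := by
    by_contra hne
    refine hy (hfix Z (fun w hw => hw.1) hne (fun w hw => ⟨hinvU w hw.1, fun u hu => ?_⟩) y
      ⟨hyU, fun u hu => ⟨u, hu, rfl⟩⟩)
    have h1 := hw.2 _ (hinvU' u hu)
    rw [← hKfix _ h1, conj_commutator] at h1
    simpa [mul_assoc] using h1
  have hall : ∀ a ∈ U, ∀ b ∈ U, ⁅a, b⁆ ∈ K := fun a ha b hb => (hZ.ge ha).2 b hb
  -- squares lie in `K`
  have hsqm : ∀ a ∈ U, ∀ b ∈ U, (a * b) ^ 2 = a ^ 2 * b ^ 2 * ⁅a⁻¹, b⁆ := fun a ha b hb => by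
    calc (a * b) ^ 2 = a * a * (⁅a⁻¹, b⁆ * (b * b)) := by
          simp only [commutatorElement_def, pow_two]; group
      _ = a * a * ((b * b) * ⁅a⁻¹, b⁆) := by rw [hcen a⁻¹ (U.inv_mem ha) b hb _ (U.mul_mem hb hb)]
      _ = a ^ 2 * b ^ 2 * ⁅a⁻¹, b⁆ := by rw [pow_two, pow_two, mul_assoc (a * a)]
  let Q : Subgroup G :=
    { carrier := {w | w ∈ U ∧ w ^ 2 ∈ K}
      one_mem' := ⟨U.one_mem, by rw [one_pow]; exact K.one_mem⟩
      mul_mem' := fun {a b} ha hb => ⟨U.mul_mem ha.1 hb.1, by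
        rw [hsqm a ha.1 b hb.1]
        exact K.mul_mem (K.mul_mem ha.2 hb.2) (hall _ (U.inv_mem ha.1) b hb.1)⟩
      inv_mem' := fun {a} ha => ⟨U.inv_mem ha.1, by rw [inv_pow]; exact K.inv_mem ha.2⟩ }
  have hQ : Q = U := by
    refine htop Q (fun w hw => hw.1) (fun w hw => ⟨hinvU w hw.1, ?_⟩)
      fun x hx => ⟨U.mul_mem (hinvU x hx) (U.inv_mem hx), ?_⟩
    · rw [conj_pow, hKfix _ hw.2]; exact hw.2
    · rw [hsqm _ (hinvU x hx) _ (U.inv_mem hx), conj_pow, hsq x hx, inv_pow, mul_inv_cancel,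
        one_mul]
      exact hall _ (U.inv_mem (hinvU x hx)) _ (U.inv_mem hx)
  obtain ⟨u, hu, hue⟩ := (hQ.ge hyU).2
  have hreal' : u * y * u⁻¹ = y⁻¹ := by
    have h1 : y * y = y * u * y⁻¹ * u⁻¹ := by rw [← pow_two, ← hue, commutatorElement_def]
    have h2 : y = u * y⁻¹ * u⁻¹ := mul_left_cancel (h1.trans (by group))
    calc u * y * u⁻¹ = (u * y⁻¹ * u⁻¹)⁻¹ := by group
      _ = y⁻¹ := by rw [← h2]
  have hy2 : y ^ 2 = 1 := by
    rw [← hue, commutatorElement_eq_one_iff_mul_comm]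
    exact (hreal U hU y hyU ⟨u, hu, hreal'⟩ u hu).symm
  exact hy (by rw [← (mem_center_iff.1 (hinv y hy2) g).symm]; group)

/-- The normal 2-complement and solvability. -/
theorem main (hFT : ∀ (K : Type u) [Group K] [Finite K], Odd (Nat.card K) → Group.IsSolvable K)
    (a : ℕ) (h : ∀ x : G, IsConj x x⁻¹ → x ∉ center G →
      ((centralizer ({x} : Set G)).index).factorization 2 = a)
    (S : Sylow 2 G)
    (hS : ∀ s : ↥(S : Subgroup G), IsConj s s⁻¹ → s ∈ center ↥(S : Subgroup G)) :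
    Group.IsSolvable G ∧
      HasNormalPComplement 2 ↥(closure {g : G | ∃ k : ℕ, orderOf g = 2 ^ k}) := by
  haveI : Fact (Nat.Prime 2) := ⟨Nat.prime_two⟩
  by_cases hex : ∀ x : G, x ≠ 1 → Odd (orderOf x) → ¬ IsConj x x⁻¹
  · refine ⟨ClassTwoPart.isSolvable_of_no_real hFT hex, ?_⟩
    haveI := Grp.two_sylow_normal_of_no_real hex S
    have hle : closure {g : G | ∃ k : ℕ, orderOf g = 2 ^ k} ≤ (S : Subgroup G) := by
      rw [closure_le]
      rintro g ⟨k, hk⟩
      obtain ⟨T, hT⟩ := (IsPGroup.of_card (n := k)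
        (by rw [Nat.card_zpowers, hk]) : IsPGroup 2 (zpowers g)).exists_le_sylow
      haveI : Subsingleton (Sylow 2 G) := (Sylow.unique_of_normal S inferInstance).instSubsingleton
      exact Subsingleton.elim T S ▸ hT (mem_zpowers g)
    exact Transfer.hasNormalPComplement_iff_exists.2 ⟨⊥, inferInstance,
      by simp, by rw [index_bot]; exact IsPGroup.iff_card.1 (S.isPGroup'.to_le hle)⟩
  push Not at hex
  obtain ⟨x, hx1, hodd, hc⟩ := hex
  have hreal : ∀ U : Subgroup G, IsPGroup 2 U → ∀ y ∈ U, (∃ u ∈ U, u * y * u⁻¹ = y⁻¹) →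
      ∀ v ∈ U, v * y = y * v := by
    rintro U hU y hy ⟨u, hu, hue⟩ v hv
    obtain ⟨T, hT⟩ := hU.exists_le_sylow
    obtain ⟨c, rfl⟩ := MulAction.exists_smul_eq G S T
    have hm : ∀ w ∈ U, c⁻¹ * w * c ∈ (S : Subgroup G) := fun w hw => by
      have h1 := hT hw
      rw [Sylow.coe_subgroup_smul, mem_pointwise_smul_iff_inv_smul_mem, ← map_inv] at h1
      simpa using h1
    have h1 := hS ⟨_, hm y hy⟩ (isConj_iff.2 ⟨⟨_, hm u hu⟩, Subtype.ext (by
      show c⁻¹ * u * c * (c⁻¹ * y * c) * (c⁻¹ * u * c)⁻¹ = (c⁻¹ * y * c)⁻¹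
      calc _ = c⁻¹ * (u * y * u⁻¹) * c := by group
        _ = _ := by rw [hue]; group)⟩)
    have h2 := congrArg Subtype.val (mem_center_iff.1 h1 ⟨_, hm v hv⟩)
    have h3 : c⁻¹ * (v * y) * c = c⁻¹ * (y * v) * c := by
      simp only [coe_mul] at h2
      calc c⁻¹ * (v * y) * c = c⁻¹ * v * c * (c⁻¹ * y * c) := by group
        _ = c⁻¹ * y * c * (c⁻¹ * v * c) := h2
        _ = _ := by group
    simpa using h3
  have hxc : x ∉ center G := fun hm => by
    obtain ⟨g, hg⟩ := isConj_iff.1 hc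
    rw [mem_center_iff.1 hm g, mul_inv_cancel_right] at hg
    exact hx1 (Grp.eq_one_of_odd_of_sq hodd (mul_eq_one_iff_eq_inv.2 hg))
  have ha : a ≠ 0 := by
    intro h0
    obtain ⟨g, hg⟩ := isConj_iff.1 hc
    have h2 : 2 ∣ (centralizer ({x} : Set G)).index := by
      rw [← relIndex_top_right]
      exact Grp.two_dvd_relIndex_centralizer_of_real
        (fun e => hx1 (Grp.eq_one_of_odd_of_sq hodd e)) hg ⊤ (mem_top g) le_top
    have h3 := h x hc hxc
    rw [h0] at h3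
    exact ((Nat.Prime.factorization_pos_of_dvd Nat.prime_two index_ne_zero_of_finite h2).ne') h3
  have hinv : ∀ t : G, t ^ 2 = 1 → t ∈ center G := by
    intro t ht
    by_contra htc
    have hti : t⁻¹ = t := inv_eq_of_mul_eq_one_right (by rw [← pow_two, ht])
    have hTp : IsPGroup 2 (zpowers t) := by
      obtain ⟨j, -, hj⟩ := (Nat.dvd_prime_pow Nat.prime_two).1
        (orderOf_dvd_of_pow_eq_one (show t ^ 2 ^ 1 = 1 by simpa using ht))
      exact IsPGroup.of_card (n := j) (by rw [Nat.card_zpowers, hj])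
    obtain ⟨T, hT⟩ := hTp.exists_le_sylow
    have htT : t ∈ (T : Subgroup G) := hT (mem_zpowers t)
    have hle : (T : Subgroup G) ≤ centralizer ({t} : Set G) := fun v hv =>
      mem_centralizer_singleton_iff.2
        (hreal _ T.isPGroup' t htT ⟨1, one_mem _, by rw [hti]; group⟩ v hv)
    have h3 := h t (by rw [hti]) htc
    rw [Nat.factorization_eq_zero_of_not_dvd
      (fun hd => T.not_dvd_index (hd.trans (index_dvd_of_le hle)))] at h3
    exact ha h3.symm
  have hN : HasNormalPComplement 2 G := by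
    rw [Transfer.hasNormalPComplement_iff_frobeniusCondition S]
    intro Q hQ g hg hgc
    rw [mem_centralizer_iff]
    intro q hq
    have := centralizes hinv hreal _ Q rfl (S.isPGroup'.to_le hQ) g hgc
      (fun u hu => (mem_normalizer_iff.1 hg u).1 hu) q hq
    exact (mul_inv_eq_iff_eq_mul.1 this).symm
  exact ⟨ClassTwoPart.isSolvable_of_complement hFT hN,
    Transfer.hasNormalPComplement_subgroup _ hN⟩

end Cfsg.Agent.RealTwoPart
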