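import Cfsg.Agent.Lib.OddUse.ComponentOfCent

/-!
# The position of a standard subgroup in a core-free group
-/

set_option autoImplicit false

namespace Cfsg.Agent.OddUse

open scoped Pointwise commutatorElement
open Subgroup Cfsg.Agent.Grp

universe u

/-- A quasisimple group with trivial centre is simple. -/
theorem isSimpleGroup_of_quasisimple {H : Type*} [Group H] (hq : Cfsg.IsQuasisimple H)
    (hZ : Subgroup.center H = ⊥) : IsSimpleGroup H := by
  haveI := hq.2
  haveI := IsQuasisimple.nontrivial hq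
  let e : H ⧸ Subgroup.center H ≃* H := (QuotientGroup.quotientMulEquivOfEq hZ).trans QuotientGroup.quotientBot
  exact IsSimpleGroup.isSimpleGroup_of_surjective e.toMonoidHom e.surjective

/-- A quasisimple group is not commutative. -/
theorem not_comm_of_quasisimple {H : Type*} [Group H] (hq : Cfsg.IsQuasisimple H) : ¬ IsMulCommutative H := fun h =>
  IsQuasisimple.not_isSolvable hq (Group.isSolvable_of_comm fun a b => h.is_comm.comm a b)

/-- The trichotomy for a standard subgroup in a core-free group. -/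
theorem standard_trichotomy {G : Type u} [Group G] [Finite G]
    (hFT : ∀ (K : Type u) [Group K] [Finite K], Odd (Nat.card K) → Group.IsSolvable K)
    (A : Subgroup G) (hA : Cfsg.IsStandardSubgroup A) (hO : Cfsg.oddCore G = ⊥) (t : G) (ht : orderOf t = 2)
    (htA : t ∈ Subgroup.centralizer (A : Set G)) :
    A.Normal ∨ (∃ X : Subgroup G, IsSimpleGroup ↥X ∧ ¬ IsMulCommutative ↥X ∧ Nonempty (↥X ≃* ↥A) ∧
      (∀ a ∈ X, ∀ b ∈ X.map (MulAut.conj t).toMonoidHom, a * b = b * a) ∧
      X ⊓ X.map (MulAut.conj t).toMonoidHom = ⊥ ∧ X ⊔ X.map (MulAut.conj t).toMonoidHom = Cfsg.layer G ∧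
      Subgroup.centralizer (A : Set G) = Subgroup.zpowers t) ∨
    (A ≤ Cfsg.layer G ∧ IsSimpleGroup ↥(Cfsg.layer G) ∧ ¬ IsMulCommutative ↥(Cfsg.layer G)) := by
  haveI : Fact (Nat.Prime 2) := ⟨Nat.prime_two⟩
  obtain ⟨hAq, ⟨-, htight⟩, hdist, hNN⟩ := hA
  set K := Subgroup.centralizer (A : Set G) with hK
  have ht2 : t ^ 2 = 1 := ht ▸ pow_orderOf_eq_one t
  have hAperf : ⁅A, A⁆ = A := by
    have h := congrArg (Subgroup.map A.subtype) hAq.1.commutator_eq_top
    rwa [_root_.commutator_def, Subgroup.map_commutator, ← MonoidHom.range_eq_map, Subgroup.range_subtype] at h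
  have hAne : A ≠ ⊥ := (Subgroup.nontrivial_iff_ne_bot _).mp (IsQuasisimple.nontrivial hAq)
  -- a subgroup of even order inside `K` pins its normalizer
  have hpin : ∀ S : Subgroup G, S ≤ K → Even (Nat.card S) →
      Subgroup.normalizer (S : Set G) ≤ Subgroup.normalizer (A : Set G) := by
    intro S hSK hS g hg
    rw [hNN]
    by_contra hgK
    have hle : S ≤ K ⊓ K.map (MulAut.conj g).toMonoidHom := le_inf hSK (by
      rw [map_conj_eq_smul, ← mem_normalizer_iff_smul.mp hg]
      exact Subgroup.pointwise_smul_le_pointwise_smul_iff.mpr hSK)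
    exact Nat.not_even_iff_odd.mpr (htight g hgK)
      (even_iff_two_dvd.mpr (hS.two_dvd.trans (Subgroup.card_dvd_of_le hle)))
  -- normal subgroups inside `K`
  have hnorm : ∀ S : Subgroup G, S.Normal → S ≤ K → S = ⊥ ∨ A.Normal := by
    intro S hS hSK
    rcases Nat.even_or_odd (Nat.card S) with h | h
    · right
      rw [← Subgroup.normalizer_eq_top_iff, eq_top_iff, ← (Subgroup.normalizer_eq_top_iff.mpr hS)]
      exact hpin S hSK h
    · left
      rw [← le_bot_iff, ← (show Cfsg.pPrimeCore 2 G = ⊥ from hO)]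
      exact le_pPrimeCore hS (Nat.coprime_two_right.mpr h)
  by_cases hAn : A.Normal
  · exact Or.inl hAn
  right
  set C := Subgroup.centralizer ({t} : Set G) with hCdef
  have hAC : A ≤ C := fun a ha => Subgroup.mem_centralizer_singleton_iff.mpr
    (Subgroup.mem_centralizer_iff.mp htA a ha)
  have hCN : C ≤ Subgroup.normalizer (A : Set G) := by
    refine le_trans ?_ (hpin (Subgroup.zpowers t) (Subgroup.zpowers_le.mpr htA)
      (by rw [Nat.card_zpowers, ht]; exact even_two))
    rw [hCdef, ← Subgroup.centralizer_closure, ← Subgroup.zpowers_eq_closure]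
    exact Subgroup.centralizer_le_normalizer _
  haveI : (A.subgroupOf C).Normal := Subgroup.normal_subgroupOf_of_le_normalizer hCN
  have hAcomp : Cfsg.IsComponent (A.subgroupOf C) :=
    ⟨Subgroup.Normal.isSubnormal inferInstance, (isQuasisimple_subgroupOf_iff hAC).mpr hAq⟩
  have hR : IsPGroup 2 (Subgroup.zpowers t) := IsPGroup.of_card (n := 1) (by rw [Nat.card_zpowers, ht, pow_one])
  have hCR : Subgroup.centralizer (Subgroup.zpowers t : Set G) = C := by
    rw [hCdef, Subgroup.zpowers_eq_closure, Subgroup.centralizer_closure]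
  have hAE : A ≤ Cfsg.layer G := by
    rw [← pLayer_eq_layer (p := 2) (show Cfsg.pPrimeCore 2 G = ⊥ from hO)]
    refine le_trans ?_ (hCR ▸ lBalance hR : pLayerIn 2 C ≤ Cfsg.pLayer 2 G)
    have h1 := ComponentMax.component_le_pLayer hAcomp (by
      rw [Nat.card_congr (Subgroup.subgroupOfEquivOfLe hAC).toEquiv]
      exact (even_card_of_quasisimple hFT hAq).two_dvd)
    intro x hx
    exact ⟨⟨x, hAC hx⟩, h1 hx, rfl⟩
  obtain ⟨J, hJ, hAJ, huniq, hin, hout⟩ := Cfsg.Agent.Invol.component_orbit ht2 hAC hAperf hAne hAcomp.1 hAE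
    (fun D₁ D₂ hD₁C hD₂C hs₁ hs₂ hle => by
      rcases component_le_or_commute hAcomp hs₁ with h | h
      · exact Or.inl fun x hx => h (show (⟨x, hAC hx⟩ : C) ∈ A.subgroupOf C from hx)
      rcases component_le_or_commute hAcomp hs₂ with h' | h'
      · exact Or.inr fun x hx => h' (show (⟨x, hAC hx⟩ : C) ∈ A.subgroupOf C from hx)
      exfalso
      rw [Subgroup.commutator_eq_bot_iff_le_centralizer] at h h'
      have h2 : A ≤ Subgroup.centralizer (A : Set G) := by
        refine hle.trans (sup_le ?_ ?_) <;> intro d hd <;> rw [Subgroup.mem_centralizer_iff] <;> intro l hl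
        · exact (congrArg Subtype.val
            (Subgroup.mem_centralizer_iff.1 (h (show (⟨l, hAC hl⟩ : C) ∈ A.subgroupOf C from hl))
              ⟨d, hD₁C hd⟩ hd)).symm
        · exact (congrArg Subtype.val
            (Subgroup.mem_centralizer_iff.1 (h' (show (⟨l, hAC hl⟩ : C) ∈ A.subgroupOf C from hl))
              ⟨d, hD₂C hd⟩ hd)).symm
      exact hAne (hAperf ▸ Subgroup.commutator_eq_bot_iff_le_centralizer.2 h2))
  have hJperf : ⁅J, J⁆ = J := IsComponent.perfect hJ
  have hJne : J ≠ ⊥ := IsComponent.ne_bot hJ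
  -- other components are absent once `J` does not normalize `A`
  have honly : ¬ J ≤ Subgroup.normalizer (A : Set G) →
      ∀ J' : Subgroup G, Cfsg.IsComponent J' → J' = J ∨ J' = MulAut.conj t • J := by
    intro hno J' hJ'
    by_contra hne
    push Not at hne
    have hAJ' : A ≤ Subgroup.centralizer (J' : Set G) := by
      by_contra h
      obtain ⟨i, hi⟩ := huniq J' hJ' h
      rcases Nat.even_or_odd' i with ⟨m, rfl | rfl⟩
      · exact hne.1 (by rw [hi, pow_mul, ht2, one_pow, map_one, one_smul])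
      · exact hne.2 (by rw [hi, pow_succ, pow_mul, ht2, one_pow, one_mul])
    refine hno (le_trans ?_ (hpin J' (Subgroup.le_centralizer_iff.mp hAJ') (even_card_of_quasisimple hFT hJ'.2)))
    exact (IsComponent.commute hJ hJ' (Ne.symm hne.1)).trans (Subgroup.centralizer_le_normalizer _)
  have hlayer : ¬ J ≤ Subgroup.normalizer (A : Set G) → Cfsg.layer G = J ⊔ MulAut.conj t • J := fun hno =>
    le_antisymm (sSup_le fun J' hJ' => by
        rcases honly hno J' hJ' with rfl | rfl
        · exact le_sup_left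
        · exact le_sup_right)
      (sup_le (IsComponent.le_layer hJ) (IsComponent.le_layer (IsComponent.conj hJ t)))
  have hZE : (Subgroup.center ↥(Cfsg.layer G)).map (Cfsg.layer G).subtype = ⊥ := by
    refine (hnorm _ ConjAct.normal_of_characteristic_of_normal ?_).resolve_right hAn
    rintro _ ⟨z, hz, rfl⟩
    exact Subgroup.mem_centralizer_iff.mpr fun a ha =>
      congrArg Subtype.val (Subgroup.mem_center_iff.mp hz ⟨a, hAE ha⟩)
  by_cases hn : t ∈ Subgroup.normalizer (J : Set G)
  · right
    have hle := hin hn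
    have hAJne : A ≠ J := by
      intro e
      refine hAn ⟨fun a ha g => ?_⟩
      by_contra hga
      have hne : A.map (MulAut.conj g).toMonoidHom ≠ A := fun h => hga (h ▸ ⟨a, ha, by simp⟩)
      refine hdist g hne (Subgroup.commutator_eq_bot_iff_le_centralizer.mpr ?_)
      rw [map_conj_eq_smul] at hne ⊢
      rw [e] at hne ⊢
      exact IsComponent.commute hJ (IsComponent.conj hJ g) (Ne.symm hne)
    have hno : ¬ J ≤ Subgroup.normalizer (A : Set G) := by
      intro h
      haveI : (A.subgroupOf J).Normal := Subgroup.normal_subgroupOf_of_le_normalizer h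
      rcases IsQuasisimple.eq_top_or_le_center hJ.2 (A.subgroupOf J) with h' | h'
      · exact hAJne (le_antisymm hle (Subgroup.subgroupOf_eq_top.mp h'))
      · refine hAne (hAperf ▸ Subgroup.commutator_eq_bot_iff_le_centralizer.mpr fun a ha => ?_)
        exact Subgroup.mem_centralizer_iff.mpr fun b hb => congrArg Subtype.val
          (Subgroup.mem_center_iff.mp (h' (show (⟨a, hle ha⟩ : J) ∈ A.subgroupOf J from ha)) ⟨b, hle hb⟩)
    have hE : Cfsg.layer G = J := by
      rw [hlayer hno, mem_normalizer_iff_smul.mp hn, sup_idem]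
    rw [hE]
    refine ⟨hle, ?_, not_comm_of_quasisimple hJ.2⟩
    refine isSimpleGroup_of_quasisimple hJ.2 ((Subgroup.map_eq_bot_iff_of_injective _ J.subtype_injective).mp ?_)
    rw [← hZE, hE]
  · left
    obtain ⟨-, -, -, ⟨ψ, hψr, hψc, -⟩, hlast⟩ := hout hn
    set Jt := MulAut.conj t • J with hJt
    have hJtne : J ≠ Jt := fun e => hn (mem_normalizer_iff_smul.mpr e.symm)
    have hcomm : J ≤ Subgroup.centralizer (Jt : Set G) :=
      IsComponent.commute hJ (IsComponent.conj hJ t) hJtne
    have hno : ¬ J ≤ Subgroup.normalizer (A : Set G) := by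
      intro h
      refine hJne (hJperf ▸ Subgroup.commutator_eq_bot_iff_le_centralizer.mpr ?_)
      suffices h1 : ⁅J, J⁆ ≤ Subgroup.centralizer (J : Set G) by rwa [hJperf] at h1
      rw [Subgroup.commutator_le]
      intro j hj j' hj'
      have hc := hψc ⟨j', hj'⟩
      have hψA : ψ ⟨j', hj'⟩ ∈ A := hψr ▸ ⟨_, rfl⟩
      have h2 : ⁅j, ψ ⟨j', hj'⟩⁆ ∈ A := by
        rw [commutatorElement_def]
        exact A.mul_mem ((Subgroup.mem_normalizer_iff.mp (h hj) _).mp hψA) (A.inv_mem hψA)
      have h3 : ⁅j, ψ ⟨j', hj'⟩⁆ = ⁅j, j'⁆ := by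
        have hcj : j * ((j' : G)⁻¹ * ψ ⟨j', hj'⟩) = ((j' : G)⁻¹ * ψ ⟨j', hj'⟩) * j :=
          Subgroup.mem_centralizer_iff.mp hc j hj
        simp only [commutatorElement_def]
        calc j * ψ ⟨j', hj'⟩ * j⁻¹ * (ψ ⟨j', hj'⟩)⁻¹
            = j * j' * ((j' : G)⁻¹ * ψ ⟨j', hj'⟩) * j⁻¹ * (ψ ⟨j', hj'⟩)⁻¹ := by group
          _ = j * j' * (j⁻¹ * (j * ((j' : G)⁻¹ * ψ ⟨j', hj'⟩)) * j⁻¹) * (ψ ⟨j', hj'⟩)⁻¹ := by group
          _ = j * j' * (j⁻¹ * (((j' : G)⁻¹ * ψ ⟨j', hj'⟩) * j) * j⁻¹) * (ψ ⟨j', hj'⟩)⁻¹ := by rw [hcj]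
          _ = j * j' * j⁻¹ * j'⁻¹ := by group
      have hxA : ⁅j, j'⁆ ∈ A := h3 ▸ h2
      have hxJ : ⁅j, j'⁆ ∈ J := hJperf ▸ Subgroup.commutator_mem_commutator hj hj'
      have hxt : ⁅j, j'⁆ ∈ Jt := by
        rw [hJt, mem_smul_conj]
        have h4 := Subgroup.mem_centralizer_singleton_iff.mp (hAC hxA)
        rw [mul_assoc, h4, inv_mul_cancel_left]
        exact hxJ
      refine Subgroup.mem_centralizer_iff.mpr fun y hy => ?_
      exact (Subgroup.mem_centralizer_iff.mp (hcomm hy) _ hxt).symm
    have hE := hlayer hno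
    have hcJ : ∀ z ∈ J, (∀ y ∈ J, y * z = z * y) → z = 1 := by
      intro z hz hzc
      have : z ∈ (Subgroup.center ↥(Cfsg.layer G)).map (Cfsg.layer G).subtype := by
        refine ⟨⟨z, IsComponent.le_layer hJ hz⟩, Subgroup.mem_center_iff.mpr fun y => Subtype.ext ?_, rfl⟩
        have hy : (y : G) ∈ Subgroup.centralizer ({z} : Set G) := by
          refine (hE.le.trans (sup_le ?_ ?_)) y.2
          · exact fun w hw => Subgroup.mem_centralizer_singleton_iff.mpr (hzc w hw)
          · exact fun w hw => Subgroup.mem_centralizer_singleton_iff.mpr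
              (Subgroup.mem_centralizer_iff.mp (hcomm hz) w hw)
        exact Subgroup.mem_centralizer_singleton_iff.mp hy
      rwa [hZE, Subgroup.mem_bot] at this
    have hZJ : Subgroup.center ↥J = ⊥ := by
      rw [eq_bot_iff]
      intro z hz
      exact Subgroup.mem_bot.mpr (Subtype.ext (hcJ z z.2 fun y hy =>
        congrArg Subtype.val (Subgroup.mem_center_iff.mp hz ⟨y, hy⟩)))
    haveI hsimp := isSimpleGroup_of_quasisimple hJ.2 hZJ
    refine ⟨J, hsimp, not_comm_of_quasisimple hJ.2, ?_, ?_, ?_, ?_, ?_⟩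
    · have hψinj : Function.Injective ψ := by
        rw [← MonoidHom.ker_eq_bot_iff]
        rcases (inferInstance : ψ.ker.Normal).eq_bot_or_eq_top with h | h
        · exact h
        · exfalso
          refine hAne ?_
          rw [← hψr, MonoidHom.range_eq_map, ← h]
          exact (Subgroup.map_eq_bot_iff _).mpr le_rfl
      exact ⟨(MonoidHom.ofInjective hψinj).trans (MulEquiv.subgroupCongr hψr)⟩
    · intro a ha b hb
      rw [map_conj_eq_smul] at hb
      exact (Subgroup.mem_centralizer_iff.mp (hcomm ha) b hb).symm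
    · rw [map_conj_eq_smul, eq_bot_iff]
      intro z hz
      exact Subgroup.mem_bot.mpr (hcJ z hz.1 fun y hy => (Subgroup.mem_centralizer_iff.mp (hcomm hy) z hz.2).symm)
    · rw [map_conj_eq_smul, hE]
    · refine le_antisymm (fun k hk => ?_) (Subgroup.zpowers_le.mpr htA)
      have hfix : ∀ e ∈ K, e ∈ Subgroup.normalizer (J : Set G) → e = 1 := by
        intro e he heJ
        have hsw : ∀ f ∈ K, f ∈ Subgroup.normalizer (J : Set G) → f ∈ Subgroup.centralizer (J : Set G) :=
          fun f hf hfJ => hlast f hfJ hf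
        have h1 : MulAut.conj e • Jt = Jt := by
          rcases honly hno _ (IsComponent.conj (IsComponent.conj hJ t) e) with h | h
          · exfalso
            exact hJtne (smul_left_cancel _ (h.trans (mem_normalizer_iff_smul.mp heJ).symm)).symm
          · exact h
        have h2 : t⁻¹ * e * t ∈ Subgroup.normalizer (J : Set G) := by
          rw [mem_normalizer_iff_smul, map_mul, map_mul, mul_smul, mul_smul, ← hJt, h1, hJt, smul_smul,
            ← map_mul, inv_mul_cancel, map_one, one_smul]
        have h3 := hsw _ (K.mul_mem (K.mul_mem (K.inv_mem htA) he) htA) h2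
        have hN : Subgroup.centralizer (Cfsg.layer G : Set G) = ⊥ := by
          haveI : (Cfsg.layer G).Normal := inferInstance
          exact (hnorm _ (centralizer_normal' _) (Subgroup.centralizer_le (SetLike.coe_subset_coe.mpr hAE))).resolve_right hAn
        suffices h4 : e ∈ Subgroup.centralizer (Cfsg.layer G : Set G) by
          rwa [hN, Subgroup.mem_bot] at h4
        rw [← Subgroup.zpowers_le, Subgroup.le_centralizer_iff, hE]
        refine sup_le ?_ ?_
        · rw [Subgroup.le_centralizer_iff, Subgroup.zpowers_le]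
          exact hsw e he heJ
        · rw [Subgroup.le_centralizer_iff, Subgroup.zpowers_le, Subgroup.mem_centralizer_iff]
          intro y hy
          rw [hJt, SetLike.mem_coe, mem_smul_conj] at hy
          have h5 := Subgroup.mem_centralizer_iff.mp h3 _ hy
          calc y * e = t * ((t⁻¹ * y * t) * (t⁻¹ * e * t)) * t⁻¹ := by group
            _ = t * ((t⁻¹ * e * t) * (t⁻¹ * y * t)) * t⁻¹ := by rw [h5]
            _ = e * y := by group
      rcases honly hno _ (IsComponent.conj hJ k) with h | h
      · rw [hfix k hk (mem_normalizer_iff_smul.mpr h)]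
        exact one_mem _
      · have h6 := hfix (t⁻¹ * k) (K.mul_mem (K.inv_mem htA) hk) (mem_normalizer_iff_smul.mpr (by
          rw [map_mul, mul_smul, h, hJt, smul_smul, ← map_mul, inv_mul_cancel, map_one, one_smul]))
        rw [inv_mul_eq_one] at h6
        rw [← h6]
        exact Subgroup.mem_zpowers t

end Cfsg.Agent.OddUse
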