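import Mathlib
import Cfsg.Agent.Lib.Grp.Cores

/-!
# Left-normed commutator values
-/

set_option autoImplicit false

namespace Cfsg.Agent.OddUse

open Subgroup
open scoped commutatorElement

variable {G : Type*} [Group G]

/-- The step of a left-normed commutator. -/
abbrev comStep (a b : G) : G := a * b * a⁻¹ * b⁻¹

/-- A value of the left-normed commutator word in `k + 1` letters. -/
def IsVal (k : ℕ) (x : G) : Prop := ∃ (a : G) (l : List G), l.length = k ∧ x = l.foldl comStep a

/-- The condition on orders of products of values. -/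
def OrderCond (k : ℕ) (G : Type*) [Group G] : Prop :=
  ∀ x y : G, IsVal k x → IsVal k y → (orderOf x).Coprime (orderOf y) →
    (∀ r : ℕ, r.Prime → r ∣ orderOf x * orderOf y → r ∣ orderOf (x * y)) ∨
      orderOf x * orderOf y ≤ orderOf (x * y)

theorem isVal_iff {k : ℕ} {x : G} :
    IsVal k x ↔ ∃ f : Fin (k + 1) → G, x = ((List.ofFn f).tail).foldl (fun a b => a * b * a⁻¹ * b⁻¹) (f 0) := by
  constructor
  · rintro ⟨a, l, hl, rfl⟩
    subst hl
    exact ⟨Fin.cons a l.get, by simp [List.ofFn_succ]⟩
  · rintro ⟨f, rfl⟩
    exact ⟨f 0, List.ofFn fun i : Fin k => f i.succ, by simp, by simp [List.ofFn_succ]⟩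

theorem map_foldl_comStep {H : Type*} [Group H] (φ : G →* H) (a : G) (l : List G) :
    φ (l.foldl comStep a) = (l.map φ).foldl comStep (φ a) := by
  induction l generalizing a with
  | nil => rfl
  | cons b l ih => simp only [List.foldl_cons, List.map_cons]; rw [ih]; simp [comStep]

theorem IsVal.map {H : Type*} [Group H] (φ : G →* H) {k : ℕ} {x : G} (h : IsVal k x) : IsVal k (φ x) := by
  obtain ⟨a, l, hl, rfl⟩ := h
  exact ⟨φ a, l.map φ, by simp [hl], map_foldl_comStep φ a l⟩

theorem OrderCond.subgroup {k : ℕ} (h : OrderCond k G) (H : Subgroup G) : OrderCond k ↥H := fun x y hx hy hc => by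
  have := h x y (hx.map H.subtype) (hy.map H.subtype) (by rwa [Subgroup.orderOf_coe, Subgroup.orderOf_coe])
  rwa [Subgroup.orderOf_coe, Subgroup.orderOf_coe, ← Subgroup.coe_mul, Subgroup.orderOf_coe] at this

theorem iterate_eq_foldl (x n : G) (j : ℕ) :
    (fun c => comStep c x)^[j] n = (List.replicate j x).foldl comStep n := by
  induction j generalizing n with
  | zero => rfl
  | succ j ih => rw [Function.iterate_succ_apply, ih, List.replicate_succ, List.foldl_cons]

theorem isVal_iterate (k : ℕ) (x n : G) : IsVal k ((fun c => comStep c x)^[k] n) :=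
  ⟨n, List.replicate k x, by simp, iterate_eq_foldl x n k⟩

theorem comStep_mul (c x : G) : comStep c x * x = c * x * c⁻¹ := by simp [comStep]

theorem comStep_mem {N : Subgroup G} {x n : G} (hx : x ∈ Subgroup.normalizer (N : Set G)) (hn : n ∈ N) :
    comStep n x ∈ N := by
  rw [comStep, show n * x * n⁻¹ * x⁻¹ = n * (x * n⁻¹ * x⁻¹) by group]
  exact N.mul_mem hn ((Subgroup.mem_normalizer_iff.1 hx _).1 (N.inv_mem hn))

theorem iterate_mem {N : Subgroup G} {x n : G} (hx : x ∈ Subgroup.normalizer (N : Set G)) (hn : n ∈ N) (j : ℕ) :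
    (fun c => comStep c x)^[j] n ∈ N := by
  induction j with
  | zero => exact hn
  | succ j ih => rw [Function.iterate_succ_apply']; exact comStep_mem hx ih

/-- If an Engel iterate of coprime order commutes with `x`, the start commutes with `x`. -/
theorem commute_of_iterate [Finite G] {x n : G}
    (hcop : ∀ j, (orderOf ((fun c => comStep c x)^[j] n)).Coprime (orderOf x)) :
    ∀ j, Commute ((fun c => comStep c x)^[j] n) x → Commute n x := by
  intro j
  induction j with
  | zero => exact id
  | succ j ih =>
    intro h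
    refine ih ?_
    set c := (fun c => comStep c x)^[j] n with hc
    have hs : (fun c => comStep c x)^[j + 1] n = comStep c x := Function.iterate_succ_apply' _ _ _
    rw [hs] at h
    have h1 := hcop (j + 1)
    rw [hs] at h1
    have h2 := h.orderOf_mul_eq_mul_orderOf_of_coprime h1
    rw [comStep_mul, show c * x * c⁻¹ = MulAut.conj c x from rfl, MulEquiv.orderOf_eq] at h2
    have h3 : orderOf (comStep c x) = 1 :=
      Nat.eq_of_mul_eq_mul_right (orderOf_pos x) (by rw [one_mul]; exact h2.symm)
    rw [orderOf_eq_one_iff, comStep, mul_inv_eq_one, mul_inv_eq_iff_eq_mul] at h3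
    exact h3

/-- A value centralizes every subgroup of coprime order that it normalizes. -/
theorem val_centralizes [Finite G] {k : ℕ} (hG : OrderCond k G) {x : G} (hx : IsVal k x) {N : Subgroup G}
    (hN : x ∈ Subgroup.normalizer (N : Set G)) (hcop : (orderOf x).Coprime (Nat.card N)) :
    ∀ n ∈ N, Commute n x := by
  intro n hn
  have hco : ∀ j, (orderOf ((fun c => comStep c x)^[j] n)).Coprime (orderOf x) := fun j =>
    (hcop.coprime_dvd_right (Subgroup.orderOf_dvd_natCard _ (iterate_mem hN hn j))).symm
  refine commute_of_iterate hco (k + 1) ?_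
  set y := (fun c => comStep c x)^[k + 1] n with hy
  suffices h : y = 1 by rw [h]; exact Commute.one_left x
  have hyv : IsVal k y := by
    rw [hy, Function.iterate_succ_apply]
    exact isVal_iterate k x _
  have hyx : orderOf (y * x) = orderOf x := by
    rw [hy, Function.iterate_succ_apply', comStep_mul, ← MulAut.conj_apply, MulEquiv.orderOf_eq]
  rcases hG y x hyv hx (hco (k + 1)) with h | h
  · rw [← orderOf_eq_one_iff]
    by_contra h1
    obtain ⟨r, hr, hry⟩ := Nat.exists_prime_and_dvd h1
    have h2 := h r hr (dvd_mul_of_dvd_left hry _)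
    rw [hyx] at h2
    exact hr.not_dvd_one ((hco (k + 1)).gcd_eq_one ▸ Nat.dvd_gcd hry h2)
  · rw [hyx] at h
    rw [← orderOf_eq_one_iff]
    have h2 : 0 < orderOf y := orderOf_pos y
    nlinarith [orderOf_pos x]

/-- If all values lie in a normal subgroup, so does the lower central series term. -/
theorem lowerCentralSeries_le_of_values {k : ℕ} {N : Subgroup G} [N.Normal]
    (h : ∀ x : G, IsVal k x → x ∈ N) : (⊤ : Subgroup G).lowerCentralSeries k ≤ N := by
  have key : ∀ (j : ℕ), j ≤ k → ∀ (a : G) (l : List G), l.length = k - j →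
      ((l.foldl comStep a : G) : G ⧸ N) ∈ Subgroup.upperCentralSeries (G ⧸ N) j := by
    intro j
    induction j with
    | zero =>
      intro _ a l hl
      rw [Subgroup.upperCentralSeries_zero, Subgroup.mem_bot, QuotientGroup.eq_one_iff]
      exact h _ ⟨a, l, hl, rfl⟩
    | succ j ih =>
      intro hj a l hl
      rw [Subgroup.mem_upperCentralSeries_succ_iff]
      intro y
      obtain ⟨b, rfl⟩ := QuotientGroup.mk_surjective y
      have h1 := ih (by omega) a (l ++ [b]) (by simp; omega)
      rw [List.foldl_append] at h1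
      exact h1
  have htop : Subgroup.upperCentralSeries (G ⧸ N) k = ⊤ := by
    refine eq_top_iff.2 fun q _ => ?_
    obtain ⟨a, rfl⟩ := QuotientGroup.mk_surjective q
    exact key k le_rfl a [] (by simp)
  intro x hx
  have h1 : (QuotientGroup.mk' N) x ∈ ((⊤ : Subgroup G).lowerCentralSeries k).map (QuotientGroup.mk' N) :=
    ⟨x, hx, rfl⟩
  rw [Subgroup.map_lowerCentralSeries, Subgroup.map_top_of_surjective _ (QuotientGroup.mk'_surjective N),
    Subgroup.lowerCentralSeries_eq_bot_iff_upperCentralSeries_eq_top.2 htop, Subgroup.mem_bot] at h1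
  exact (QuotientGroup.eq_one_iff x).1 h1

theorem isVal_mem_lowerCentralSeries {k : ℕ} {x : G} (h : IsVal k x) :
    x ∈ (⊤ : Subgroup G).lowerCentralSeries k := by
  have key : ∀ (l : List G) (a : G) (i : ℕ), a ∈ (⊤ : Subgroup G).lowerCentralSeries i →
      l.foldl comStep a ∈ (⊤ : Subgroup G).lowerCentralSeries (i + l.length) := by
    intro l
    induction l with
    | nil => intro a i ha; simpa using ha
    | cons b l ih =>
      intro a i ha
      rw [List.foldl_cons, List.length_cons, show i + (l.length + 1) = (i + 1) + l.length by omega]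
      refine ih _ _ ?_
      rw [Subgroup.lowerCentralSeries_succ]
      exact Subgroup.commutator_mem_commutator ha (Subgroup.mem_top b)
  obtain ⟨a, l, hl, rfl⟩ := h
  have := key l a 0 (by rw [Subgroup.lowerCentralSeries_zero]; trivial)
  rwa [zero_add, hl] at this

end Cfsg.Agent.OddUse
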