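import Cfsg.Agent.Lib.OddUse.ValueLemma
import Cfsg.Agent.Lib.Grp.Coprime
import Cfsg.Agent.Lib.Grp.FpfPrime
import Cfsg.Agent.Lib.Grp.Baer
import Cfsg.Agent.Lib.Transfer.Alperin
import Cfsg.Agent.Lib.Invol.ZStar
import Cfsg.Agent.Lib.Char.StarConstruction

/-!
# Nilpotency of lower central terms from orders of products of values
-/

set_option autoImplicit false
set_option maxHeartbeats 1000000

namespace Cfsg.Agent.OddUse

open Subgroup
open scoped commutatorElement

universe u

/-- A nilpotent group generated by `p`-elements is a `p`-group. -/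
theorem isPGroup_of_nilpotent_generated {G : Type*} [Group G] [Finite G] {p : ℕ} [Fact p.Prime]
    (hn : Group.IsNilpotent G) {s : Set G} (hs : Subgroup.closure s = ⊤)
    (hp : ∀ x ∈ s, IsPGroup p (Subgroup.zpowers x)) : IsPGroup p G := by
  obtain ⟨P⟩ : Nonempty (Sylow p G) := Sylow.nonempty
  have hP : (P : Subgroup G).Normal := Cfsg.Agent.Grp.isNilpotent_iff_sylow_normal.1 hn p inferInstance P
  have htop : (P : Subgroup G) = ⊤ := by
    rw [eq_top_iff, ← hs, Subgroup.closure_le]
    intro x hx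
    obtain ⟨Q, hQ⟩ := (hp x hx).exists_le_sylow
    haveI := Sylow.unique_of_normal P hP
    exact (Subsingleton.elim Q P ▸ hQ) (Subgroup.mem_zpowers x)
  exact fun g => by
    obtain ⟨j, hj⟩ := P.isPGroup' ⟨g, htop ▸ Subgroup.mem_top g⟩
    exact ⟨j, congrArg Subtype.val hj⟩

/-- A nilpotent normal subgroup has a normal complement to its `p`-part, normal in the group. -/
theorem exists_prime_complement {G : Type u} [Group G] [Finite G] {p : ℕ} [Fact p.Prime]
    {F : Subgroup G} [F.Normal] (hF : Group.IsNilpotent F) :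
    ∃ E : Subgroup G, E.Normal ∧ E ≤ F ∧ (Nat.card E).Coprime p ∧ ∃ j, E.relIndex F = p ^ j := by
  obtain ⟨P, N, hN, hc⟩ := Cfsg.Agent.Grp.hasNormalPComplement_of_nilpotent (p := p) hF
  haveI := hN
  obtain ⟨j, hj⟩ := IsPGroup.iff_card.1 P.isPGroup'
  have hidx : N.index = p ^ j := by rw [Subgroup.IsComplement'.index_eq_card hc.symm, hj]
  have hcop : (Nat.card N).Coprime p := by
    refine ((Fact.out : p.Prime).coprime_iff_not_dvd.2 fun hd => ?_).symm
    have e1 : Nat.card (P : Subgroup F) * (P : Subgroup F).index = Nat.card F := Subgroup.card_mul_index _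
    have e2 : Nat.card N * N.index = Nat.card F := Subgroup.card_mul_index _
    rw [hidx, ← e1, hj, mul_comm] at e2
    exact P.not_dvd_index (Nat.eq_of_mul_eq_mul_left (pow_pos (Fact.out : p.Prime).pos j) e2 ▸ hd)
  have hchar : N = Cfsg.pPrimeCore p F := by
    refine le_antisymm (Cfsg.Agent.Grp.le_pPrimeCore hN hcop) fun x hx => ?_
    rw [← QuotientGroup.eq_one_iff, ← orderOf_eq_one_iff]
    refine Nat.eq_one_of_dvd_coprimes ((Cfsg.Agent.Grp.pPrimeCore_coprime (p := p) (G := F)).pow_right j)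
      ((orderOf_map_dvd (QuotientGroup.mk' N) x).trans (Subgroup.orderOf_dvd_natCard _ hx)) ?_
    rw [← hidx, Subgroup.index_eq_card]
    exact orderOf_dvd_natCard _
  refine ⟨N.map F.subtype, ?_, Subgroup.map_subtype_le N, ?_, j, ?_⟩
  · rw [hchar]; exact ConjAct.normal_of_characteristic_of_normal
  · rwa [Subgroup.card_map_of_injective F.subtype_injective]
  · rw [Subgroup.relIndex, Subgroup.subgroupOf, Subgroup.comap_map_eq_self_of_injective F.subtype_injective, hidx]

/-- The image of the lower central term of a subgroup in a normal subgroup. -/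
theorem isNilpotent_map_of_lowerCentralSeries_le {G : Type u} [Group G] {H : Subgroup G} {k : ℕ}
    {N : Subgroup G} [N.Normal] (h : ((⊤ : Subgroup ↥H).lowerCentralSeries k).map H.subtype ≤ N) :
    Group.IsNilpotent ↥(H.map (QuotientGroup.mk' N)) := by
  refine Subgroup.isNilpotent_of_lowerCentralSeries_eq_bot (n := k) ?_
  rw [← Subgroup.map_lowerCentralSeries, eq_bot_iff, Subgroup.map_le_iff_le_comap,
    ← Subgroup.top_subtype_lowerCentralSeries]
  refine h.trans fun x hx => ?_
  rw [Subgroup.mem_comap, Subgroup.mem_bot, QuotientGroup.mk'_apply, QuotientGroup.eq_one_iff]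
  exact hx

/-- A group with nilpotent lower central term is solvable. -/
theorem isSolvable_of_nilpotent_term {G : Type u} [Group G] {k : ℕ}
    (h : Group.IsNilpotent ↥((⊤ : Subgroup G).lowerCentralSeries k)) : Group.IsSolvable G := by
  haveI := h
  haveI : Group.IsNilpotent (G ⧸ (⊤ : Subgroup G).lowerCentralSeries k) := by
    refine Subgroup.nilpotent_iff_lowerCentralSeries.2 ⟨k, ?_⟩
    rw [← Subgroup.map_top_of_surjective _ (QuotientGroup.mk'_surjective ((⊤ : Subgroup G).lowerCentralSeries k)),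
      ← Subgroup.map_lowerCentralSeries, QuotientGroup.map_mk'_self]
  exact solvable_of_ker_le_range ((⊤ : Subgroup G).lowerCentralSeries k).subtype
    (QuotientGroup.mk' ((⊤ : Subgroup G).lowerCentralSeries k))
    (by rw [QuotientGroup.ker_mk', Subgroup.range_subtype])

/-- The quotient by the Fitting subgroup is nilpotent in the solvable inductive step. -/
theorem isNilpotent_quotient_fitting {G : Type u} [Group G] [Finite G] {k : ℕ} (hG : OrderCond k G)
    (hsol : Group.IsSolvable G)
    (hsub : ∀ H : Subgroup G, H ≠ ⊤ → Group.IsNilpotent ↥((⊤ : Subgroup ↥H).lowerCentralSeries k)) :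
    Group.IsNilpotent (G ⧸ Cfsg.fittingSubgroup G) := by
  haveI hFn : (Cfsg.fittingSubgroup G).Normal := Cfsg.Agent.Grp.fittingSubgroup_isNormal
  set F := Cfsg.fittingSubgroup G with hFdef
  have hFnil : Group.IsNilpotent F := Cfsg.Agent.Grp.fittingSubgroup_isNilpotent
  rcases subsingleton_or_nontrivial G with hs | hn
  · infer_instance
  haveI := hn
  haveI := hsol
  obtain ⟨M, hM, hcM⟩ : ∃ M : Subgroup G, IsCoatom M ∧ _root_.commutator G ≤ M := by
    rcases eq_top_or_exists_le_coatom (_root_.commutator G) with h | ⟨M, hM, hle⟩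
    · exact absurd h (Group.IsSolvable.commutator_lt_top_of_nontrivial G).ne
    · exact ⟨M, hM, hle⟩
  haveI hMn : M.Normal := ⟨fun x hx g => by
    rw [show g * x * g⁻¹ = ⁅g, x⁆ * x by rw [commutatorElement_def]; group]
    refine M.mul_mem (hcM ?_) hx
    rw [_root_.commutator_def]
    exact Subgroup.commutator_mem_commutator (Subgroup.mem_top g) (Subgroup.mem_top x)⟩
  have hγF : ((⊤ : Subgroup ↥M).lowerCentralSeries k).map M.subtype ≤ F := by
    haveI := hsub M hM.1
    have h1 : (((⊤ : Subgroup ↥M).lowerCentralSeries k).map M.subtype).Normal := by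
      rw [Subgroup.top_subtype_lowerCentralSeries]; infer_instance
    exact Cfsg.Agent.Grp.le_fittingSubgroup h1 (Group.nilpotent_of_mulEquiv
      (Subgroup.equivMapOfInjective _ _ M.subtype_injective))
  have hMb : Group.IsNilpotent ↥(M.map (QuotientGroup.mk' F)) := isNilpotent_map_of_lowerCentralSeries_le hγF
  -- a prime whose Sylow subgroup is not in `M`
  obtain ⟨q, hqf, Q, hQM⟩ : ∃ (q : ℕ) (_ : Fact q.Prime) (Q : Subgroup G), Cfsg.Agent.Grp.IsSylowIn q Q ⊤ ∧ ¬ Q ≤ M := by
    by_contra hno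
    refine hM.1 (top_le_iff.1 (Cfsg.Agent.Grp.le_of_forall_sylow le_top fun r hr => ?_))
    obtain ⟨X, hX⟩ := Cfsg.Agent.Grp.exists_isSylowIn r (⊤ : Subgroup G)
    exact ⟨X, hX, by_contra fun h => hno ⟨r, hr, X, hX, h⟩⟩
  haveI := hqf
  obtain ⟨hQ, hQM⟩ := hQM
  have hQtop : Q ⊔ M = ⊤ := hM.2 _ (lt_of_le_not_ge le_sup_right fun h => hQM (le_sup_left.trans h))
  obtain ⟨e, he⟩ : ∃ e, M.index = q ^ e := by
    obtain ⟨e, he⟩ := IsPGroup.iff_card.1 hQ.2.1
    have h : M.index ∣ q ^ e := by
      rw [← Subgroup.relIndex_top_right M, ← hQtop, Subgroup.relIndex_sup_right, ← he]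
      exact Subgroup.relIndex_dvd_card M Q
    obtain ⟨i, -, hi⟩ := (Nat.dvd_prime_pow Fact.out).1 h
    exact ⟨i, hi⟩
  set π := QuotientGroup.mk' F with hπ
  have hπs : Function.Surjective π := QuotientGroup.mk'_surjective F
  -- main step
  have key : ∀ (p : ℕ) [Fact p.Prime], p ≠ q → ∀ P : Sylow p G,
      ((P : Subgroup G).map π).Normal ∧ ∀ g : G, (∃ i, orderOf (π g) = q ^ i) →
        ∀ m ∈ (P : Subgroup G), Commute (π m) (π g) := by
    intro p _ hpq P
    have hPM : (P : Subgroup G) ≤ M := by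
      intro x hx
      obtain ⟨i, hi⟩ := (IsPGroup.iff_orderOf.1 P.isPGroup') ⟨x, hx⟩
      rw [Subgroup.orderOf_mk] at hi
      have h1 : orderOf (x : G ⧸ M) ∣ Nat.gcd (p ^ i) (q ^ e) := by
        refine Nat.dvd_gcd ?_ ?_
        · rw [← hi]; exact orderOf_map_dvd (QuotientGroup.mk' M) x
        · rw [← he, Subgroup.index_eq_card]; exact orderOf_dvd_natCard _
      rw [Nat.Coprime.pow i e ((Nat.coprime_primes (Fact.out) Fact.out).2 hpq), Nat.dvd_one, orderOf_eq_one_iff,
        QuotientGroup.eq_one_iff] at h1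
      exact h1
    -- the image of `P` is normal
    have hPb : ((P : Subgroup G).map π).Normal := by
      have hle : (P : Subgroup G).map π ≤ M.map π := Subgroup.map_mono hPM
      let T : Sylow p (G ⧸ F) := P.mapSurjective hπs
      have hT : (T : Subgroup (G ⧸ F)) = (P : Subgroup G).map π := Sylow.coe_mapSurjective _ _
      have hT' : (T : Subgroup (G ⧸ F)) ≤ M.map π := hT ▸ hle
      haveI : ((T.subtype hT') : Subgroup ↥(M.map π)).Normal :=
        Cfsg.Agent.Grp.isNilpotent_iff_sylow_normal.1 hMb p inferInstance (T.subtype hT')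
      haveI : ((T.subtype hT') : Subgroup ↥(M.map π)).Characteristic :=
        (T.subtype hT').characteristic_of_normal inferInstance
      haveI : (M.map π).Normal := hMn.map π hπs
      have h : (((T.subtype hT') : Subgroup ↥(M.map π)).map (M.map π).subtype).Normal :=
        ConjAct.normal_of_characteristic_of_normal
      rwa [show ((T.subtype hT') : Subgroup ↥(M.map π)).map (M.map π).subtype = (P : Subgroup G).map π from by
        show ((T : Subgroup (G ⧸ F)).subgroupOf (M.map π)).map (M.map π).subtype = _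
        rw [Subgroup.map_subgroupOf_eq_of_le hT', hT]] at h
    refine ⟨hPb, ?_⟩
    haveI hPF : ((P : Subgroup G) ⊔ F).Normal := by
      have := hPb.comap π
      rwa [Subgroup.comap_map_eq, QuotientGroup.ker_mk'] at this
    obtain ⟨E, hEn, hEF, hEp, j, hEj⟩ := exists_prime_complement (p := p) hFnil
    haveI := hEn
    obtain ⟨a, ha⟩ := IsPGroup.iff_card.1 P.isPGroup'
    have hcard : ∃ t, E.relIndex ((P : Subgroup G) ⊔ F) = p ^ t := by
      obtain ⟨r, -, hr⟩ := (Nat.dvd_prime_pow (Fact.out : p.Prime)).1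
        (show F.relIndex ((P : Subgroup G) ⊔ F) ∣ p ^ a by
          rw [Subgroup.relIndex_sup_right, ← ha]; exact Subgroup.relIndex_dvd_card F P)
      exact ⟨j + r, by rw [← Subgroup.relIndex_mul_relIndex E F _ hEF le_sup_right, hEj, hr, pow_add]⟩
    set D := ((P : Subgroup G) ⊔ F) ⊓ Subgroup.centralizer (E : Set G) with hD
    haveI hDn : D.Normal := inferInstance
    have hDnil : Group.IsNilpotent D := by
      obtain ⟨t, ht⟩ := hcard
      set Z := E.subgroupOf D with hZ
      have hZc : Z ≤ Subgroup.center D := fun z hz => Subgroup.mem_center_iff.2 fun d => Subtype.ext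
        (Subgroup.mem_centralizer_iff.1 d.2.2 (z : G) hz).symm
      have hZp : IsPGroup p (↥D ⧸ Z) := by
        obtain ⟨s, -, hs⟩ := (Nat.dvd_prime_pow (Fact.out : p.Prime)).1
          (show E.relIndex D ∣ p ^ t by
            rw [← ht, ← Subgroup.relIndex_sup_right D E]
            exact Dvd.intro _ (Subgroup.relIndex_mul_relIndex E (D ⊔ E) _ le_sup_right
              (sup_le inf_le_left (hEF.trans le_sup_right))))
        exact IsPGroup.of_card (n := s) (by rw [← Subgroup.index_eq_card]; exact hs)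
      haveI := hZp.isNilpotent
      exact Subgroup.isNilpotent_of_ker_le_center (QuotientGroup.mk' Z) (by rwa [QuotientGroup.ker_mk'])
    have hDF : D ≤ F := Cfsg.Agent.Grp.le_fittingSubgroup hDn hDnil
    intro g₀ hg₀ m hm
    -- lift into the normalizer of `P`
    obtain ⟨n, hnN, f, hf, hnf⟩ : ∃ n ∈ Subgroup.normalizer ((P : Subgroup G) : Set G), ∃ f ∈ F, n * f = g₀ := by
      have h : Subgroup.normalizer ((P : Subgroup G) : Set G) ⊔ F = ⊤ := by
        have h1 : Subgroup.normalizer ((P : Subgroup G) : Set G) ⊔ ((P : Subgroup G) ⊔ F) = ⊤ :=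
          Sylow.normalizer_sup_eq_top' P le_sup_left
        rwa [← sup_assoc, sup_eq_left.2 Subgroup.le_normalizer] at h1
      have h2 : g₀ ∈ Subgroup.normalizer ((P : Subgroup G) : Set G) ⊔ F := h ▸ Subgroup.mem_top g₀
      rw [Subgroup.mem_sup_of_normal_right] at h2
      exact h2
    have hπn : π n = π g₀ := by
      rw [← hnf, map_mul, show π f = 1 from (QuotientGroup.eq_one_iff f).2 hf, mul_one]
    have hiterπ : ∀ i, π ((fun c => comStep c n)^[i] m) = (fun c => comStep c (π g₀))^[i] (π m) := by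
      intro i
      induction i with
      | zero => rfl
      | succ i ih =>
        rw [Function.iterate_succ_apply', Function.iterate_succ_apply', ← ih, ← hπn]
        simp [comStep]
    obtain ⟨i₀, hi₀⟩ := hg₀
    refine commute_of_iterate (fun i => ?_) k ?_
    · obtain ⟨s, hs⟩ := (IsPGroup.iff_orderOf.1 P.isPGroup') ⟨_, iterate_mem hnN hm i⟩
      rw [Subgroup.orderOf_mk] at hs
      have h1 : orderOf ((fun c => comStep c (π g₀))^[i] (π m)) ∣ p ^ s := by
        rw [← hiterπ, ← hs]; exact orderOf_map_dvd π _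
      rw [hi₀]
      exact Nat.Coprime.coprime_dvd_left h1 (Nat.Coprime.pow s i₀ ((Nat.coprime_primes Fact.out Fact.out).2 hpq))
    · set y := (fun c => comStep c n)^[k] m with hy
      have hyP : y ∈ (P : Subgroup G) := iterate_mem hnN hm k
      have hyE : y ∈ Subgroup.centralizer (E : Set G) := by
        refine Subgroup.mem_centralizer_iff.2 fun z hz => ?_
        refine (val_centralizes hG (hy ▸ isVal_iterate k n m) ?_ ?_ z hz).eq
        · rw [Subgroup.normalizer_eq_top]; trivial
        · obtain ⟨s, hs⟩ := (IsPGroup.iff_orderOf.1 P.isPGroup') ⟨y, hyP⟩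
          rw [Subgroup.orderOf_mk] at hs
          rw [hs]
          exact (hEp.pow_right s).symm
      have hy1 : π y = 1 := (QuotientGroup.eq_one_iff y).2 (hDF ⟨Subgroup.mem_sup_left hyP, hyE⟩)
      rw [← hiterπ, hy1]
      exact Commute.one_left _
  refine Cfsg.Agent.Grp.isNilpotent_iff_sylow_normal.2 fun r _ T => ?_
  by_cases hrq : r = q
  · subst hrq
    rw [← Subgroup.normalizer_eq_top_iff, eq_top_iff]
    refine Cfsg.Agent.Grp.le_of_forall_sylow le_top fun t ht => ?_
    haveI := ht
    by_cases htr : t = r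
    · subst htr
      refine ⟨T, ⟨le_top, T.isPGroup', ?_⟩, Subgroup.le_normalizer⟩
      rw [Subgroup.relIndex_top_right]; exact T.not_dvd_index
    · obtain ⟨P⟩ : Nonempty (Sylow t G) := Sylow.nonempty
      refine ⟨(P.mapSurjective hπs : Subgroup (G ⧸ F)), ⟨le_top, (P.mapSurjective hπs).isPGroup', ?_⟩, ?_⟩
      · rw [Subgroup.relIndex_top_right]; exact (P.mapSurjective hπs).not_dvd_index
      · intro x hx
        rw [Sylow.coe_mapSurjective] at hx
        obtain ⟨m, hm, rfl⟩ := hx
        refine Subgroup.centralizer_le_normalizer _ (Subgroup.mem_centralizer_iff.2 fun z hz => ?_)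
        obtain ⟨g, rfl⟩ := hπs z
        obtain ⟨i, hi⟩ := (IsPGroup.iff_orderOf.1 T.isPGroup') ⟨_, hz⟩
        rw [Subgroup.orderOf_mk] at hi
        exact ((key t htr P).2 g ⟨i, hi⟩ m hm).symm.eq
  · obtain ⟨P⟩ : Nonempty (Sylow r G) := Sylow.nonempty
    have hPn : ((P.mapSurjective hπs : Sylow r (G ⧸ F)) : Subgroup (G ⧸ F)).Normal := by
      rw [Sylow.coe_mapSurjective]; exact (key r hrq P).1
    haveI := Sylow.unique_of_normal _ hPn
    rw [Subsingleton.elim T (P.mapSurjective hπs)]
    exact hPn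

/-- The solvable inductive step. -/
theorem term_nilpotent_of_solvable {G : Type u} [Group G] [Finite G] {k : ℕ} (hG : OrderCond k G)
    (hsol : Group.IsSolvable G)
    (hsub : ∀ H : Subgroup G, H ≠ ⊤ → Group.IsNilpotent ↥((⊤ : Subgroup ↥H).lowerCentralSeries k)) :
    Group.IsNilpotent ↥((⊤ : Subgroup G).lowerCentralSeries k) := by
  haveI hFn : (Cfsg.fittingSubgroup G).Normal := Cfsg.Agent.Grp.fittingSubgroup_isNormal
  have hquot := isNilpotent_quotient_fitting hG hsol hsub
  set F := Cfsg.fittingSubgroup G with hFdef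
  have hFnil : Group.IsNilpotent F := Cfsg.Agent.Grp.fittingSubgroup_isNilpotent
  obtain ⟨C, -, hC⟩ := (Set.toFinite {C : Subgroup G | F ⊔ C = ⊤}).exists_le_minimal (a := ⊤)
    (show F ⊔ ⊤ = ⊤ from sup_top_eq _)
  have hCtop : F ⊔ C = ⊤ := hC.1
  -- a minimal supplement is nilpotent
  have hCfr : ∀ L : Subgroup ↥C, L ⊔ F.subgroupOf C = ⊤ → L = ⊤ := by
    intro L hL
    have h1 : F ⊔ L.map C.subtype = ⊤ := by
      rw [eq_top_iff, ← hCtop]
      refine sup_le le_sup_left ?_
      have h2 := congrArg (Subgroup.map C.subtype) hL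
      rw [Subgroup.map_sup, ← MonoidHom.range_eq_map, Subgroup.range_subtype] at h2
      exact h2.symm.le.trans (sup_le le_sup_right (le_trans (Subgroup.map_comap_le _ _) le_sup_left))
    have h3 := hC.2 h1 (Subgroup.map_subtype_le L)
    exact eq_top_iff.2 fun c _ => by
      obtain ⟨d, hd, hdc⟩ := h3 c.2
      rwa [← Subtype.ext hdc]
  haveI hCnil : Group.IsNilpotent C := by
    have hq : Group.IsNilpotent (↥C ⧸ F.subgroupOf C) := by
      haveI := hquot
      let f : ↥C →* G ⧸ F := (QuotientGroup.mk' F).comp C.subtype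
      have hf : f.ker = F.subgroupOf C := by
        ext c
        simp [f, Subgroup.mem_subgroupOf, QuotientGroup.eq_one_iff]
      exact Group.nilpotent_of_mulEquiv
        ((Subgroup.topEquiv.symm.trans (MulEquiv.subgroupCongr (MonoidHom.range_eq_top.2 (by
          intro x
          obtain ⟨g, rfl⟩ := QuotientGroup.mk'_surjective F x
          have hg : g ∈ F ⊔ C := hCtop ▸ Subgroup.mem_top g
          rw [Subgroup.mem_sup_of_normal_left] at hg
          obtain ⟨a, ha, b, hb, rfl⟩ := hg
          refine ⟨⟨b, hb⟩, ?_⟩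
          show (QuotientGroup.mk' F) b = _
          rw [map_mul, show (QuotientGroup.mk' F) a = 1 from (QuotientGroup.eq_one_iff a).2 ha, one_mul])).symm)).trans
          ((QuotientGroup.quotientKerEquivRange f).symm.trans (QuotientGroup.quotientMulEquivOfEq hf)))
    refine Cfsg.Agent.Grp.isNilpotent_iff_sylow_normal.2 fun r _ T => ?_
    have h := Cfsg.Agent.Grp.isNilpotent_iff_sylow_normal.1 hq r inferInstance
      (T.mapSurjective (QuotientGroup.mk'_surjective _))
    rw [Sylow.coe_mapSurjective] at h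
    have hn' := h.comap (QuotientGroup.mk' (F.subgroupOf C))
    rw [Subgroup.comap_map_eq, QuotientGroup.ker_mk'] at hn'
    haveI := hn'
    rw [← Subgroup.normalizer_eq_top_iff]
    refine hCfr _ ?_
    have h2 := Sylow.normalizer_sup_eq_top' T (le_sup_left : (T : Subgroup ↥C) ≤ (T : Subgroup ↥C) ⊔ F.subgroupOf C)
    rwa [← sup_assoc, sup_eq_left.2 (show (T : Subgroup ↥C) ≤ Subgroup.normalizer (T : Set ↥C)
      from Subgroup.le_normalizer)] at h2
  set Γ := ((⊤ : Subgroup ↥C).lowerCentralSeries k).map C.subtype with hΓ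
  -- values of `C` of order prime to `p` centralize `O_p(G)`
  have hcent : ∀ (p : ℕ) [Fact p.Prime], ∀ y ∈ Γ, (orderOf y).Coprime p →
      y ∈ Subgroup.centralizer (Cfsg.pCore p G : Set G) := by
    intro p _ y hy hyp
    haveI := Cfsg.Agent.Grp.pCore_isNormal (p := p) (G := G)
    set CC := (Subgroup.centralizer (Cfsg.pCore p G : Set G)).subgroupOf C with hCC
    haveI : CC.Normal := inferInstance
    obtain ⟨P, N, hN, hc⟩ := Cfsg.Agent.Grp.hasNormalPComplement_of_nilpotent (p := p) hCnil
    haveI := hN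
    haveI hPn : (P : Subgroup ↥C).Normal :=
      Cfsg.Agent.Grp.isNilpotent_iff_sylow_normal.1 hCnil p inferInstance P
    have hNcop : (Nat.card N).Coprime p := by
      refine ((Fact.out : p.Prime).coprime_iff_not_dvd.2 fun hd => ?_).symm
      have e1 : Nat.card (P : Subgroup ↥C) * (P : Subgroup ↥C).index = Nat.card C := Subgroup.card_mul_index _
      have e2 : Nat.card N * Nat.card (P : Subgroup ↥C) = Nat.card C := hc.card_mul
      rw [← e1, mul_comm] at e2
      exact P.not_dvd_index (Nat.eq_of_mul_eq_mul_left Nat.card_pos e2 ▸ hd)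
    set T := CC ⊔ (P : Subgroup ↥C) with hT
    have hval : ∀ x : ↥C, IsVal k x → x ∈ T := by
      rintro x ⟨a, l, hl, rfl⟩
      have hdec : ∀ c : ↥C, ∃ d ∈ N, (d : ↥C ⧸ T) = (c : ↥C ⧸ T) := by
        intro c
        obtain ⟨⟨d, b⟩, hdb, -⟩ := hc.existsUnique c
        refine ⟨d, d.2, ?_⟩
        rw [← hdb, QuotientGroup.mk_mul, (QuotientGroup.eq_one_iff (b : ↥C)).2 (Subgroup.mem_sup_right b.2), mul_one]
      choose d hdN hd using hdec
      have hyN : (l.map d).foldl comStep (d a) ∈ N := by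
        clear hl
        suffices h : ∀ (l' : List ↥C) (b : ↥C), b ∈ N → (l'.map d).foldl comStep b ∈ N from h l _ (hdN a)
        intro l'
        induction l' with
        | nil => intro b hb; exact hb
        | cons e l' ih =>
          intro b hb
          rw [List.map_cons, List.foldl_cons]
          exact ih _ (N.mul_mem (N.mul_mem (N.mul_mem hb (hdN e)) (N.inv_mem hb)) (N.inv_mem (hdN e)))
      have heq : (((l.map d).foldl comStep (d a) : ↥C) : ↥C ⧸ T) = ((l.foldl comStep a : ↥C) : ↥C ⧸ T) := by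
        rw [← QuotientGroup.mk'_apply, ← QuotientGroup.mk'_apply, map_foldl_comStep, map_foldl_comStep,
          List.map_map]
        congr 1
        · exact hd a
        · exact List.map_congr_left fun c _ => hd c
      have hv : IsVal k ((l.map d).foldl comStep (d a)) := ⟨d a, l.map d, by simp [hl], rfl⟩
      have hvC : (l.map d).foldl comStep (d a) ∈ CC := by
        rw [hCC, Subgroup.mem_subgroupOf]
        refine Subgroup.mem_centralizer_iff.2 fun z hz => ?_
        refine (val_centralizes hG (hv.map C.subtype) ?_ ?_ z hz).eq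
        · rw [Subgroup.normalizer_eq_top]; trivial
        · obtain ⟨j, hj⟩ := IsPGroup.iff_card.1 (Cfsg.Agent.Grp.pCore_isPGroup (p := p) (G := G))
          rw [hj, Subgroup.coe_subtype, Subgroup.orderOf_coe]
          exact ((hNcop.coprime_dvd_left (Subgroup.orderOf_dvd_natCard N hyN))).pow_right j
      rw [← QuotientGroup.eq_one_iff, ← heq, QuotientGroup.eq_one_iff]
      exact Subgroup.mem_sup_left hvC
    obtain ⟨y', hy', rfl⟩ := hy
    have hyT : y' ∈ T := lowerCentralSeries_le_of_values hval hy'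
    obtain ⟨b, hb⟩ := IsPGroup.iff_card.1 P.isPGroup'
    have hTq : CC.relIndex T ∣ p ^ b := by
      rw [hT, sup_comm, Subgroup.relIndex_sup_right, ← hb]
      exact Subgroup.relIndex_dvd_card _ _
    rw [Subgroup.coe_subtype, Subgroup.orderOf_coe] at hyp
    show y' ∈ CC
    have h1 : orderOf ((⟨y', hyT⟩ : T) : ↥T ⧸ CC.subgroupOf T) ∣ Nat.gcd (orderOf y') (p ^ b) := by
      refine Nat.dvd_gcd ?_ ((_root_.orderOf_dvd_natCard _).trans ?_)
      · rw [← Subgroup.orderOf_mk y' hyT]; exact orderOf_map_dvd (QuotientGroup.mk' _) _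
      · rw [← Subgroup.index_eq_card]; exact hTq
    rw [hyp.pow_right b, Nat.dvd_one, orderOf_eq_one_iff, QuotientGroup.eq_one_iff] at h1
    exact h1
  -- the subgroup `F ⊔ Γ`
  have hγn : ((⊤ : Subgroup G).lowerCentralSeries k).map (QuotientGroup.mk' F) = Γ.map (QuotientGroup.mk' F) := by
    rw [Subgroup.map_lowerCentralSeries, hΓ, Subgroup.map_map, Subgroup.map_lowerCentralSeries]
    congr 1
    rw [Subgroup.map_top_of_surjective _ (QuotientGroup.mk'_surjective F), eq_comm, ← MonoidHom.range_eq_map,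
      MonoidHom.range_comp, Subgroup.range_subtype]
    rw [eq_top_iff, ← Subgroup.map_top_of_surjective _ (QuotientGroup.mk'_surjective F), ← hCtop, Subgroup.map_sup,
      QuotientGroup.map_mk'_self, bot_sup_eq]
  set T := F ⊔ Γ with hT
  have hle : (⊤ : Subgroup G).lowerCentralSeries k ≤ T := by
    intro x hx
    have h1 : x ∈ (Γ.map (QuotientGroup.mk' F)).comap (QuotientGroup.mk' F) := by
      rw [← hγn]; exact ⟨x, hx, rfl⟩
    rwa [Subgroup.comap_map_eq, QuotientGroup.ker_mk', sup_comm] at h1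
  haveI hTn : T.Normal := by
    have h1 : (((⊤ : Subgroup G).lowerCentralSeries k).map (QuotientGroup.mk' F)).Normal :=
      Subgroup.Normal.map inferInstance _ (QuotientGroup.mk'_surjective F)
    rw [hγn] at h1
    have h2 := h1.comap (QuotientGroup.mk' F)
    rwa [Subgroup.comap_map_eq, QuotientGroup.ker_mk', sup_comm] at h2
  suffices hTnil : Group.IsNilpotent T by
    haveI := hTnil
    exact Group.nilpotent_of_mulEquiv (Subgroup.subgroupOfEquivOfLe hle)
  haveI hΓnil : Group.IsNilpotent Γ :=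
    Group.nilpotent_of_mulEquiv (Subgroup.equivMapOfInjective _ C.subtype C.subtype_injective)
  have hΓcomm : ∀ (r : ℕ) [Fact r.Prime], ∀ R : Subgroup G, Cfsg.Agent.Grp.IsSylowIn r R Γ →
      ∀ (s : ℕ) [Fact s.Prime], s ≠ r → ∀ S : Subgroup G, Cfsg.Agent.Grp.IsSylowIn s S Γ →
        R ≤ Subgroup.centralizer (S : Set G) := by
    intro r _ R hR s _ hsr S hS x hx
    refine Subgroup.mem_centralizer_iff.2 fun z hz => ?_
    obtain ⟨i, hi⟩ := (IsPGroup.iff_orderOf.1 hR.2.1) ⟨x, hx⟩
    obtain ⟨j, hj⟩ := (IsPGroup.iff_orderOf.1 hS.2.1) ⟨z, hz⟩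
    rw [Subgroup.orderOf_mk] at hi hj
    exact congrArg Subtype.val (Cfsg.Agent.Char.Star.commute_of_coprime_order (E := ↥Γ) hΓnil
      (x := ⟨z, hS.1 hz⟩) (y := ⟨x, hR.1 hx⟩)
      (by rw [Subgroup.orderOf_mk, Subgroup.orderOf_mk, hi, hj]
          exact Nat.Coprime.pow j i ((Nat.coprime_primes Fact.out Fact.out).2 hsr)))
  have hW : ∀ (r : ℕ) [Fact r.Prime], ∀ R : Subgroup G, Cfsg.Agent.Grp.IsSylowIn r R Γ →
      (Cfsg.pCore r G ⊔ R).subgroupOf T ≤ Cfsg.fittingSubgroup ↥T := by
    intro r _ R hR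
    haveI := Cfsg.Agent.Grp.pCore_isNormal (p := r) (G := G)
    set W := Cfsg.pCore r G ⊔ R with hWdef
    have hWT : W ≤ T := sup_le ((Cfsg.Agent.Grp.pCore_le_fittingSubgroup).trans le_sup_left) (hR.1.trans le_sup_right)
    have hWp : IsPGroup r W :=
      (Cfsg.Agent.Grp.pCore_isPGroup (p := r) (G := G)).to_sup_of_normal_left hR.2.1
    have hcW : ∀ x : G, x ∈ Subgroup.centralizer (R : Set G) → x ∈ Subgroup.normalizer (W : Set G) := fun x hx =>
      Cfsg.Agent.Grp.mem_normalizer_iff_smul.2 (by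
        rw [hWdef, Subgroup.smul_sup, Subgroup.Normal.conj_smul_eq_self x (Cfsg.pCore r G),
          Cfsg.Agent.Grp.mem_normalizer_iff_smul.1 (Subgroup.centralizer_le_normalizer _ hx)])
    have hTW : T ≤ Subgroup.normalizer (W : Set G) := by
      refine sup_le ?_ ?_
      · rw [hFdef, Cfsg.Agent.Grp.fittingSubgroup_eq_iSup_pCore]
        refine iSup_le fun s => ?_
        haveI : Fact (s : ℕ).Prime := ⟨s.2⟩
        by_cases hsr : (s : ℕ) = r
        · rw [hsr]; exact le_sup_left.trans Subgroup.le_normalizer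
        · intro x hx
          refine hcW x (Subgroup.mem_centralizer_iff.2 fun z hz => ?_)
          obtain ⟨j, hj⟩ := (IsPGroup.iff_orderOf.1 hR.2.1) ⟨z, hz⟩
          rw [Subgroup.orderOf_mk] at hj
          exact (Subgroup.mem_centralizer_iff.1 (hcent (s : ℕ) z (hR.1 hz) (by
            rw [hj]; exact Nat.Coprime.pow_left j ((Nat.coprime_primes Fact.out s.2).2 (Ne.symm hsr)))) x hx).symm
      · refine Cfsg.Agent.Grp.le_of_forall_sylow (H := Γ ⊓ Subgroup.normalizer (W : Set G)) inf_le_left
          (fun s hs => ?_) |>.trans inf_le_right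
        haveI := hs
        by_cases hsr : s = r
        · subst hsr
          exact ⟨R, hR, le_inf hR.1 (le_sup_right.trans Subgroup.le_normalizer)⟩
        · obtain ⟨S, hS⟩ := Cfsg.Agent.Grp.exists_isSylowIn s Γ
          exact ⟨S, hS, le_inf hS.1 fun x hx => hcW x (hΓcomm s S hS r (Ne.symm hsr) R hR hx)⟩
    exact Cfsg.Agent.Grp.le_fittingSubgroup (Subgroup.normal_subgroupOf_of_le_normalizer hTW)
      (hWp.comap_subtype (K := T)).isNilpotent
  have htop : Cfsg.fittingSubgroup ↥T = ⊤ := by
    rw [eq_top_iff, ← Subgroup.subgroupOf_self (H := T)]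
    suffices h : T ≤ (Cfsg.fittingSubgroup ↥T).map T.subtype by
      intro x hx
      obtain ⟨z, hz, hzx⟩ := h x.2
      rwa [← Subtype.ext hzx]
    have hsingle : ∀ (r : ℕ) [Fact r.Prime], ∀ R : Subgroup G, Cfsg.Agent.Grp.IsSylowIn r R Γ →
        Cfsg.pCore r G ⊔ R ≤ (Cfsg.fittingSubgroup ↥T).map T.subtype := by
      intro r _ R hR x hx
      have hxT : x ∈ T :=
        (sup_le ((Cfsg.Agent.Grp.pCore_le_fittingSubgroup).trans le_sup_left) (hR.1.trans le_sup_right) :
          Cfsg.pCore r G ⊔ R ≤ T) hx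
      exact ⟨⟨x, hxT⟩, hW r R hR hx, rfl⟩
    refine sup_le ?_ ?_
    · rw [hFdef, Cfsg.Agent.Grp.fittingSubgroup_eq_iSup_pCore]
      refine iSup_le fun s => ?_
      haveI : Fact (s : ℕ).Prime := ⟨s.2⟩
      obtain ⟨R, hR⟩ := Cfsg.Agent.Grp.exists_isSylowIn (s : ℕ) Γ
      exact le_sup_left.trans (hsingle (s : ℕ) R hR)
    · refine Cfsg.Agent.Grp.le_of_forall_sylow (H := Γ ⊓ (Cfsg.fittingSubgroup ↥T).map T.subtype) inf_le_left
        (fun s hs => ?_) |>.trans inf_le_right
      haveI := hs
      obtain ⟨S, hS⟩ := Cfsg.Agent.Grp.exists_isSylowIn s Γ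
      exact ⟨S, hS, le_inf hS.1 (le_sup_right.trans (hsingle s S hS))⟩
  have := Cfsg.Agent.Grp.fittingSubgroup_isNilpotent (G := ↥T)
  rw [htop] at this
  exact Group.isNilpotent_top.1 this

end Cfsg.Agent.OddUse
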