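import Cfsg.Agent.Lib.OddUse.ValueNilpotent
import Cfsg.Agent.Lib.Grp.PSolvable

/-!
# The nonsolvable case for the value condition
-/

set_option autoImplicit false
set_option maxHeartbeats 1000000

namespace Cfsg.Agent.OddUse

open Subgroup
open scoped commutatorElement Pointwise

universe u

/-- In a simple group of even order some odd-order-free configuration gives a non-trivial Engel
iterate of involutions in an abelian 2-subgroup. -/
theorem exists_moved_involution {S : Type u} [Group S] [Finite S] [IsSimpleGroup S]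
    (hS : ¬ IsMulCommutative S) (heven : Even (Nat.card S)) :
    ∃ V : Subgroup S, IsPGroup 2 V ∧ (∀ v ∈ V, v ^ 2 = 1) ∧ (∀ v ∈ V, ∀ w ∈ V, v * w = w * v) ∧
      ∃ g ∈ Subgroup.normalizer (V : Set S), Odd (orderOf g) ∧ ∃ v ∈ V, ¬ Commute v g := by
  haveI : Fact (Nat.Prime 2) := ⟨Nat.prime_two⟩
  obtain ⟨P⟩ : Nonempty (Sylow 2 S) := Sylow.nonempty
  have hP : (P : Subgroup S) ≠ ⊥ := fun h => by
    have h2 := P.not_dvd_index
    rw [h, Subgroup.index_bot] at h2
    exact h2 heven.two_dvd
  haveI : Nontrivial (P : Subgroup S) := (Subgroup.nontrivial_iff_ne_bot _).2 hP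
  haveI := P.isPGroup'.center_nontrivial
  obtain ⟨⟨⟨z, hzP⟩, hzc⟩, hz2⟩ := exists_prime_orderOf_dvd_card' (G := Subgroup.center (P : Subgroup S)) 2 (by
    obtain ⟨n, hn⟩ := IsPGroup.iff_card.1 (P.isPGroup'.to_subgroup (Subgroup.center (P : Subgroup S)))
    rw [hn]
    refine dvd_pow_self 2 fun h => ?_
    rw [h, pow_zero] at hn
    have := Finite.one_lt_card (α := Subgroup.center (P : Subgroup S))
    omega)
  rw [Subgroup.orderOf_mk, Subgroup.orderOf_mk] at hz2
  have hzcen : ∀ a ∈ (P : Subgroup S), a * z = z * a := fun a ha =>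
    congrArg Subtype.val (Subgroup.mem_center_iff.1 hzc ⟨a, ha⟩)
  have hz1 : z ≠ 1 := fun h => by rw [h, orderOf_one] at hz2; omega
  by_contra hno
  have hfix : ∀ g : S, g * z * g⁻¹ ∈ (P : Subgroup S) → g * z * g⁻¹ = z := by
    intro g hg
    have hch := Cfsg.Agent.Transfer.alperin P ({z} : Set S) g⁻¹
      (fun a ha => by rw [Set.mem_singleton_iff] at ha; subst ha; exact hzP)
      (by rintro _ ⟨a, ha, rfl⟩
          rw [Set.mem_singleton_iff] at ha
          subst ha
          show g⁻¹⁻¹ * a * g⁻¹ ∈ (P : Subgroup S)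
          rw [inv_inv]; exact hg)
    suffices h : ∀ (A : Set S) (y : S), Cfsg.Agent.Transfer.AlperinChain P A y → A = {z} → y⁻¹ * z * y = z by
      simpa using h _ _ hch rfl
    intro A y hy
    induction hy with
    | nil A => intro _; simp
    | @cons A R x y hT hsub _ ih =>
      intro hA
      subst hA
      set D := (P : Subgroup S) ⊓ (R : Subgroup S)
      have hzD : z ∈ D := hsub rfl
      have hfx : x⁻¹ * z * x = z := by
        set N := Subgroup.normalizer (D : Set S) with hN
        let V : Subgroup S :=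
          { carrier := {v | v ∈ D ∧ (∀ d ∈ D, d * v = v * d) ∧ v ^ 2 = 1}
            one_mem' := ⟨one_mem D, fun d _ => by simp, one_pow 2⟩
            mul_mem' := fun {a b} ha hb => ⟨D.mul_mem ha.1 hb.1, fun d hd => by
              rw [← mul_assoc, ha.2.1 d hd, mul_assoc, hb.2.1 d hd, mul_assoc], by
              have hc : Commute a b := hb.2.1 a ha.1
              rw [hc.mul_pow, ha.2.2, hb.2.2, one_mul]⟩
            inv_mem' := fun {a} ha => by
              have h : a⁻¹ = a := inv_eq_of_mul_eq_one_left (by rw [← pow_two]; exact ha.2.2)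
              rw [h]; exact ha }
        have hzV : z ∈ V := ⟨hzD, fun d hd => hzcen d hd.1, by rw [← hz2]; exact pow_orderOf_eq_one z⟩
        have hVc : ∀ v ∈ V, ∀ w ∈ V, v * w = w * v := fun v hv w hw => hw.2.1 v hv.1
        have hVp : IsPGroup 2 V := fun v => ⟨1, Subtype.ext (by simpa using v.2.2.2)⟩
        have hVN : N ≤ Subgroup.normalizer (V : Set S) := by
          have hstep : ∀ n ∈ N, ∀ v ∈ V, n * v * n⁻¹ ∈ V := by
            intro n hn v hv
            refine ⟨(Subgroup.mem_normalizer_iff.1 hn v).1 hv.1, fun d hd => ?_, by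
              rw [conj_pow, hv.2.2, mul_one, mul_inv_cancel]⟩
            have h1 : n⁻¹ * d * n ∈ D := by
              have := (Subgroup.mem_normalizer_iff.1 (N.inv_mem hn) d).1 hd
              simpa using this
            calc d * (n * v * n⁻¹) = n * (n⁻¹ * d * n * v) * n⁻¹ := by group
              _ = n * (v * (n⁻¹ * d * n)) * n⁻¹ := by rw [hv.2.1 _ h1]
              _ = _ := by group
          intro n hn
          rw [Subgroup.mem_normalizer_iff]
          refine fun v => ⟨hstep n hn v, fun hv => ?_⟩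
          have := hstep n⁻¹ (N.inv_mem hn) _ hv
          simpa [mul_assoc] using this
        have hodd : ∀ n ∈ N, Odd (orderOf n) → ∀ v ∈ V, Commute v n := fun n hn ho v hv =>
          by_contra fun hc => hno ⟨V, hVp, fun w hw => hw.2.2, hVc, n, hVN hn, ho, v, hv, hc⟩
        have hPN : N ≤ (N ⊓ Subgroup.centralizer ({z} : Set S)) := by
          refine Cfsg.Agent.Grp.le_of_forall_sylow inf_le_left fun q hq => ?_
          haveI := hq
          by_cases hq2 : q = 2
          · subst hq2
            exact ⟨(P : Subgroup S) ⊓ N, ⟨inf_le_right, P.isPGroup'.to_le inf_le_left, hT.2.1⟩,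
              le_inf inf_le_right fun a ha => Subgroup.mem_centralizer_singleton_iff.2 (hzcen a ha.1)⟩
          · obtain ⟨X, hX⟩ := Cfsg.Agent.Grp.exists_isSylowIn q N
            refine ⟨X, hX, fun a ha => ⟨hX.1 ha, Subgroup.mem_centralizer_singleton_iff.2 ?_⟩⟩
            obtain ⟨i, hi⟩ := (IsPGroup.iff_orderOf.1 hX.2.1) ⟨a, ha⟩
            rw [Subgroup.orderOf_mk] at hi
            refine (hodd a (hX.1 ha) (hi ▸ ((Fact.out : q.Prime).odd_of_ne_two hq2).pow) z hzV).symm.eq
        have hxz : x * z = z * x := Subgroup.mem_centralizer_singleton_iff.1 (hPN hT.1).2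
        rw [mul_assoc, ← hxz, inv_mul_cancel_left]
      calc (x * y)⁻¹ * z * (x * y) = y⁻¹ * (x⁻¹ * z * x) * y := by group
        _ = z := by rw [hfx]; exact ih (by rw [Set.image_singleton, hfx])
  obtain ⟨N, hN, hodd, hc⟩ := Cfsg.Agent.ZStar.exists_odd_normal
    (Cfsg.Agent.ZStar.isIsolated_of_sylow hzP hz2 hfix)
  rcases hN.eq_bot_or_eq_top with h | h
  · rcases (Subgroup.center S).normal_of_characteristic.eq_bot_or_eq_top with h' | h'
    · refine hz1 (Subgroup.mem_bot.1 (h' ▸ Subgroup.mem_center_iff.2 fun g => ?_))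
      exact (mul_inv_eq_iff_eq_mul.1 (mul_inv_eq_one.1 (Subgroup.mem_bot.1 (h ▸ hc g)))).symm
    · exact hS ⟨⟨fun a b => Subgroup.mem_center_iff.1 (h' ▸ Subgroup.mem_top b) a⟩⟩
  · rw [h, Subgroup.card_top] at hodd
    exact Nat.not_even_iff_odd.2 hodd heven

/-- A simple group is not generated by two involutions unless it is abelian. -/
theorem not_closure_involution_pair {S : Type u} [Group S] [IsSimpleGroup S] (hS : ¬ IsMulCommutative S)
    {a b : S} (ha : a * a = 1) (hb : b * b = 1) : Subgroup.closure ({a, b} : Set S) ≠ ⊤ := by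
  intro htop
  set R := Subgroup.zpowers (a * b)
  have hai : a⁻¹ = a := inv_eq_of_mul_eq_one_left ha
  have hbi : b⁻¹ = b := inv_eq_of_mul_eq_one_left hb
  have hgen : ∀ c ∈ ({a, b} : Set S), ∀ m ∈ R, c * m * c⁻¹ ∈ R := by
    intro c hc m hm
    obtain ⟨i, rfl⟩ := Subgroup.mem_zpowers_iff.1 hm
    have h : c * (a * b) * c⁻¹ = (a * b)⁻¹ := by
      rw [Set.mem_insert_iff, Set.mem_singleton_iff] at hc
      rcases hc with rfl | rfl
      · rw [mul_inv_rev, hai, hbi, ← mul_assoc, ha, one_mul]
      · rw [mul_inv_rev, hai, hbi, mul_assoc, mul_assoc, hb, mul_one]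
    rw [← MulAut.conj_apply, map_zpow, MulAut.conj_apply, h]
    exact R.zpow_mem (R.inv_mem (Subgroup.mem_zpowers _)) i
  have hRn : R.Normal := by
    rw [← Subgroup.normalizer_eq_top_iff, eq_top_iff, ← htop, Subgroup.closure_le]
    intro c hc
    rw [SetLike.mem_coe, Subgroup.mem_normalizer_iff]
    refine fun m => ⟨hgen c hc m, fun hm => ?_⟩
    have hci : c⁻¹ = c := by
      rw [Set.mem_insert_iff, Set.mem_singleton_iff] at hc
      rcases hc with rfl | rfl
      · exact hai
      · exact hbi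
    have := hgen c hc _ hm
    rw [hci] at this
    have hcc : c * c = 1 := by nth_rw 1 [← hci]; exact inv_mul_cancel c
    simpa [mul_assoc, hcc, ← mul_assoc c c] using this
  rcases hRn.eq_bot_or_eq_top with h | h
  · have hab : a = b := by
      have : a * b = 1 := Subgroup.mem_bot.1 (h ▸ Subgroup.mem_zpowers (a * b))
      rw [← hbi]; exact eq_inv_of_mul_eq_one_left this
    rw [← hab, Set.pair_eq_singleton, ← Subgroup.zpowers_eq_closure] at htop
    refine hS ⟨⟨fun x y => ?_⟩⟩
    obtain ⟨i, rfl⟩ := Subgroup.mem_zpowers_iff.1 (htop ▸ Subgroup.mem_top x)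
    obtain ⟨j, rfl⟩ := Subgroup.mem_zpowers_iff.1 (htop ▸ Subgroup.mem_top y)
    exact zpow_mul_comm a i j
  · refine hS ⟨⟨fun x y => ?_⟩⟩
    obtain ⟨i, rfl⟩ := Subgroup.mem_zpowers_iff.1 (h ▸ Subgroup.mem_top x : x ∈ R)
    obtain ⟨j, rfl⟩ := Subgroup.mem_zpowers_iff.1 (h ▸ Subgroup.mem_top y : y ∈ R)
    exact zpow_mul_comm (a * b) i j

/-- Two conjugate values of 2-power order generate a 2-group inside a proper subgroup. -/
theorem isPGroup_pair {G : Type u} [Group G] [Finite G] {k : ℕ} (hG : OrderCond k G)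
    (hsub : ∀ H : Subgroup G, H ≠ ⊤ → Group.IsNilpotent ↥((⊤ : Subgroup ↥H).lowerCentralSeries k))
    {y y' : G} (hy : IsVal k y) (hy' : IsVal k y') (hy2 : IsPGroup 2 (Subgroup.zpowers y))
    (hy2' : IsPGroup 2 (Subgroup.zpowers y')) (hne : Subgroup.closure ({y, y'} : Set G) ≠ ⊤) :
    IsPGroup 2 ↥(Subgroup.closure ({y, y'} : Set G)) := by
  haveI : Fact (Nat.Prime 2) := ⟨Nat.prime_two⟩
  set H := Subgroup.closure ({y, y'} : Set G) with hH
  haveI hΓ := hsub H hne
  set Γ := (⊤ : Subgroup ↥H).lowerCentralSeries k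
  obtain ⟨E, hEn, hEΓ, hEc, j, hEj⟩ := exists_prime_complement (p := 2) (F := Γ) hΓ
  haveI := hEn
  let gens : Set ↥H := {x | (x : G) = y ∨ (x : G) = y'}
  have hgens : Subgroup.closure gens = ⊤ := by
    refine Subgroup.map_injective H.subtype_injective ?_
    rw [MonoidHom.map_closure, ← MonoidHom.range_eq_map, Subgroup.range_subtype]
    refine le_antisymm ((Subgroup.closure_le H).2 ?_) ?_
    · rintro _ ⟨x, -, rfl⟩; exact x.2
    · show Subgroup.closure ({y, y'} : Set G) ≤ _
      refine Subgroup.closure_mono ?_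
      intro x hx
      exact ⟨⟨x, Subgroup.subset_closure hx⟩, hx, rfl⟩
  have hgen2 : ∀ x ∈ gens, IsPGroup 2 (Subgroup.zpowers x) := by
    intro x hx
    have h : IsPGroup 2 (Subgroup.zpowers (x : G)) := by
      rcases hx with h | h <;> rw [h] <;> assumption
    obtain ⟨i, hi⟩ := IsPGroup.iff_card.1 h
    exact IsPGroup.of_card (n := i) (by rw [Nat.card_zpowers] at hi ⊢; rw [← Subgroup.orderOf_coe, hi])
  have hEz : E ≤ Subgroup.center ↥H := by
    intro e he
    rw [Subgroup.mem_center_iff]
    suffices h : Subgroup.closure gens ≤ Subgroup.centralizer ({e} : Set ↥H) by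
      intro x
      exact Subgroup.mem_centralizer_singleton_iff.1 (h (hgens ▸ Subgroup.mem_top x))
    rw [Subgroup.closure_le]
    intro x hx
    rw [SetLike.mem_coe, Subgroup.mem_centralizer_singleton_iff]
    have hxv : IsVal k (x : G) := by rcases hx with h | h <;> rw [h] <;> assumption
    have hnor : (x : G) ∈ Subgroup.normalizer (E.map H.subtype : Set G) :=
      Subgroup.le_normalizer_map H.subtype ⟨x, by rw [Subgroup.normalizer_eq_top]; trivial, rfl⟩
    have hc : (orderOf (x : G)).Coprime (Nat.card (E.map H.subtype)) := by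
      rw [Subgroup.card_map_of_injective H.subtype_injective, Subgroup.orderOf_coe]
      obtain ⟨i, hi⟩ := IsPGroup.iff_card.1 (hgen2 x hx)
      rw [Nat.card_zpowers] at hi
      rw [hi]
      exact (hEc.pow_right i).symm
    exact Subtype.ext (val_centralizes hG hxv hnor hc e ⟨e, he, rfl⟩).symm.eq
  haveI : Γ.Normal := inferInstance
  have hq : IsPGroup 2 (↥H ⧸ Γ) := by
    refine isPGroup_of_nilpotent_generated (s := QuotientGroup.mk' Γ '' gens) ?_ ?_ ?_
    · refine Subgroup.nilpotent_iff_lowerCentralSeries.2 ⟨k, ?_⟩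
      rw [← Subgroup.map_top_of_surjective _ (QuotientGroup.mk'_surjective Γ), ← Subgroup.map_lowerCentralSeries,
        QuotientGroup.map_mk'_self]
    · rw [← MonoidHom.map_closure, hgens, Subgroup.map_top_of_surjective _ (QuotientGroup.mk'_surjective Γ)]
    · rintro _ ⟨x, hx, rfl⟩
      have := (hgen2 x hx).map (QuotientGroup.mk' Γ)
      rwa [MonoidHom.map_zpowers] at this
  obtain ⟨i, hi⟩ := IsPGroup.iff_card.1 hq
  have hEidx : E.index = 2 ^ (j + i) := by
    rw [← Subgroup.relIndex_mul_index hEΓ, hEj, Subgroup.index_eq_card, hi, pow_add]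
  haveI : Group.IsNilpotent (↥H ⧸ E) :=
    (IsPGroup.of_card (p := 2) (n := j + i) (by rw [← Subgroup.index_eq_card, hEidx])).isNilpotent
  exact isPGroup_of_nilpotent_generated
    (Subgroup.isNilpotent_of_ker_le_center (QuotientGroup.mk' E) (by rwa [QuotientGroup.ker_mk'])) hgens hgen2

/-- The nonsolvable step is empty. -/
theorem isSolvable_of_orderCond {G : Type u} [Group G] [Finite G] {k : ℕ} (hG : OrderCond k G)
    (hFT : ∀ (H : Type u) [Group H] [Finite H], Odd (Nat.card H) → Group.IsSolvable H)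
    (hsub : ∀ H : Subgroup G, H ≠ ⊤ → Group.IsNilpotent ↥((⊤ : Subgroup ↥H).lowerCentralSeries k)) :
    Group.IsSolvable G := by
  haveI : Fact (Nat.Prime 2) := ⟨Nat.prime_two⟩
  by_contra hns
  obtain ⟨M, -, hM⟩ := (Set.toFinite {M : Subgroup G | M.Normal ∧ M ≠ ⊤}).exists_le_maximal (a := ⊥)
    ⟨inferInstance, fun h => hns (by
      haveI : Subsingleton G := Subgroup.subsingleton_iff.1 (subsingleton_of_bot_eq_top h)
      exact Group.isSolvable_of_comm fun a b => Subsingleton.elim _ _)⟩
  haveI := hM.1.1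
  haveI hMsol : Group.IsSolvable M := isSolvable_of_nilpotent_term (hsub M hM.1.2)
  set π := QuotientGroup.mk' M
  have hπs : Function.Surjective π := QuotientGroup.mk'_surjective M
  haveI : Nontrivial (G ⧸ M) := QuotientGroup.nontrivial_iff.2 hM.1.2
  haveI hsimp : IsSimpleGroup (G ⧸ M) :=
    { eq_bot_or_eq_top_of_normal := fun K hK => by
        by_cases ht : K.comap π = ⊤
        · exact Or.inr (by rw [← Subgroup.map_comap_eq_self_of_surjective hπs K, ht, Subgroup.map_top_of_surjective _ hπs])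
        · left
          have hle : M ≤ K.comap π := fun m hm => by
            rw [Subgroup.mem_comap, show π m = 1 from (QuotientGroup.eq_one_iff m).2 hm]; exact one_mem K
          have := hM.2 ⟨hK.comap π, ht⟩ hle
          rw [← Subgroup.map_comap_eq_self_of_surjective hπs K, le_antisymm this hle, QuotientGroup.map_mk'_self] }
  have hS : ¬ IsMulCommutative (G ⧸ M) := fun h => hns (by
    haveI : Group.IsSolvable (G ⧸ M) := Group.isSolvable_of_comm fun a b => h.is_comm.comm a b
    exact solvable_of_ker_le_range M.subtype π (by rw [QuotientGroup.ker_mk', Subgroup.range_subtype]))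
  have heven : Even (Nat.card (G ⧸ M)) := (Nat.even_or_odd _).resolve_right fun h =>
    hS ⟨⟨IsSimpleGroup.comm_iff_isSolvable.2 (hFT _ h)⟩⟩
  obtain ⟨V, hVp, hV2, hVc, g, hgN, hgodd, v, hvV, hvg⟩ := exists_moved_involution hS heven
  obtain ⟨U, hU⟩ := Cfsg.Agent.Grp.exists_isSylowIn 2 (V.comap π)
  obtain ⟨l, hl⟩ := hπs g
  have hlW : MulAut.conj l • V.comap π = V.comap π := Cfsg.Agent.Grp.mem_normalizer_iff_smul.1 (by
    rw [Subgroup.mem_normalizer_iff]
    intro m
    rw [Subgroup.mem_comap, Subgroup.mem_comap, map_mul, map_mul, map_inv, hl]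
    exact Subgroup.mem_normalizer_iff.1 hgN _)
  obtain ⟨w, hw, hwU⟩ := (hU.smul (g := l) hlW).conj hU
  -- corrected lift
  set g' := w * l
  have hg'U : g' ∈ Subgroup.normalizer (U : Set G) := by
    rw [Cfsg.Agent.Grp.mem_normalizer_iff_smul]
    show MulAut.conj (w * l) • U = U
    rw [map_mul, mul_smul, hwU]
  have hUV : ∀ x ∈ U, π x ∈ V := fun x hx => hU.1 hx
  obtain ⟨u, hu, huv⟩ : ∃ u ∈ U, π u = v := by
    have hmap : V ≤ U.map π := by
      refine le_of_eq (Subgroup.eq_of_le_of_card_ge ?_ ?_).symm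
      · rintro _ ⟨x, hx, rfl⟩; exact hUV x hx
      · obtain ⟨n, hn⟩ := IsPGroup.iff_card.1 hVp
        have h1 : (U.map π).relIndex V ∣ 2 ^ n := hn ▸ Subgroup.relIndex_dvd_card _ _
        have h2 : (U.map π).relIndex V ∣ U.relIndex (V.comap π) := by
          have h3 : (U.map π).relIndex ((V.comap π).map π) ∣ U.relIndex (V.comap π) :=
            Cfsg.Agent.Grp.relIndex_map_dvd π hU.1
          rwa [Subgroup.map_comap_eq_self_of_surjective hπs] at h3
        obtain ⟨i, -, hi⟩ := (Nat.dvd_prime_pow Nat.prime_two).1 h1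
        rcases Nat.eq_zero_or_pos i with rfl | hpos
        · exact Subgroup.card_le_of_le (Subgroup.relIndex_eq_one.1 hi)
        · exact absurd (((hi ▸ dvd_pow_self 2 hpos.ne') : 2 ∣ (U.map π).relIndex V).trans h2) hU.2.2
    obtain ⟨x, hx, hxv⟩ := hmap hvV
    exact ⟨x, hx, hxv⟩
  have hiter : ∀ i, π ((fun c => comStep c g')^[i] u) = (fun c => comStep c g)^[i] v ∧
      (fun c => comStep c g)^[i] v ∈ V := by
    intro i
    induction i with
    | zero => exact ⟨huv, hvV⟩
    | succ i ih =>
      obtain ⟨h1, h2⟩ := ih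
      rw [Function.iterate_succ_apply', Function.iterate_succ_apply']
      set c := (fun c => comStep c g)^[i] v
      refine ⟨?_, comStep_mem hgN h2⟩
      have hwV : π w ∈ V := hw
      simp only [comStep, map_mul, map_inv, h1, g']
      rw [hl]
      have h3 : g * c⁻¹ * g⁻¹ ∈ V := (Subgroup.mem_normalizer_iff.1 hgN _).1 (V.inv_mem h2)
      have h4 := hVc (π w) hwV _ h3
      calc c * (π w * g) * c⁻¹ * (π w * g)⁻¹ = c * ((π w * (g * c⁻¹ * g⁻¹)) * (π w)⁻¹) := by group
        _ = c * ((g * c⁻¹ * g⁻¹ * π w) * (π w)⁻¹) := by rw [h4]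
        _ = c * g * c⁻¹ * g⁻¹ := by group
  set y := (fun c => comStep c g')^[k] u with hydef
  have hyv : IsVal k y := isVal_iterate k g' u
  have hyU : y ∈ U := iterate_mem hg'U hu k
  have hy2 : IsPGroup 2 (Subgroup.zpowers y) := hU.2.1.to_le (Subgroup.zpowers_le.2 hyU)
  have hπy := hiter k
  rw [← hydef] at hπy
  have hne : π y ≠ 1 := by
    intro h
    refine hvg (commute_of_iterate (fun i => ?_) k (by rw [← hπy.1, h]; exact Commute.one_left g))
    exact Nat.Coprime.coprime_dvd_left (orderOf_dvd_of_pow_eq_one (hV2 _ (hiter i).2))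
      (Nat.coprime_two_left.2 hgodd)
  have hcore : π y ∈ Cfsg.pCore 2 (G ⧸ M) := by
    refine Cfsg.Agent.Grp.baer_suzuki (π y) fun q => ?_
    obtain ⟨h, rfl⟩ := hπs q
    have himg : (Subgroup.closure ({y, h * y * h⁻¹} : Set G)).map π =
        Subgroup.closure ({π y, π h * π y * (π h)⁻¹} : Set (G ⧸ M)) := by
      rw [MonoidHom.map_closure, Set.image_pair, map_mul, map_mul, map_inv]
    have hsq : π y * π y = 1 := by rw [← pow_two]; exact hV2 _ (hπy.1 ▸ hπy.2)
    have hprop : Subgroup.closure ({y, h * y * h⁻¹} : Set G) ≠ ⊤ := fun ht =>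
      not_closure_involution_pair hS hsq
        (by rw [show π h * π y * (π h)⁻¹ * (π h * π y * (π h)⁻¹) = π h * (π y * π y) * (π h)⁻¹ by group, hsq,
          mul_one, mul_inv_cancel])
        (by rw [← himg, ht, Subgroup.map_top_of_surjective _ hπs])
    rw [← himg]
    have hy' : IsVal k (h * y * h⁻¹) := by
      have := hyv.map (MulAut.conj h).toMonoidHom
      simpa using this
    refine (isPGroup_pair hG hsub hyv hy' hy2 ?_ hprop).map π
    have := hy2.map (MulAut.conj h).toMonoidHom
    rw [MonoidHom.map_zpowers] at this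
    exact this
  rcases (Cfsg.Agent.Grp.pCore_isNormal (p := 2) (G := G ⧸ M)).eq_bot_or_eq_top with h | h
  · exact hne (Subgroup.mem_bot.1 (h ▸ hcore))
  · refine hS ?_
    have hp := Cfsg.Agent.Grp.pCore_isPGroup (p := 2) (G := G ⧸ M)
    rw [h] at hp
    haveI := hp.isNilpotent
    haveI : Group.IsNilpotent (G ⧸ M) := Group.isNilpotent_top.1 inferInstance
    exact ⟨⟨IsSimpleGroup.comm_iff_isSolvable.2 inferInstance⟩⟩

/-- Nilpotency of the lower central term from the order condition. -/
theorem term_nilpotent_of_orderCond (k : ℕ) : ∀ (n : ℕ) (G : Type u) [Group G] [Finite G], Nat.card G = n →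
    (∀ (H : Type u) [Group H] [Finite H], Odd (Nat.card H) → Group.IsSolvable H) →
    OrderCond k G → Group.IsNilpotent ↥((⊤ : Subgroup G).lowerCentralSeries k) := by
  intro n
  induction n using Nat.strong_induction_on with
  | _ n IH =>
  intro G _ _ hn hFT hG
  have hsub : ∀ H : Subgroup G, H ≠ ⊤ → Group.IsNilpotent ↥((⊤ : Subgroup ↥H).lowerCentralSeries k) := by
    intro H hH
    refine IH _ (hn ▸ lt_of_le_of_ne H.card_le_card_group fun h => hH (Subgroup.eq_top_of_card_eq H h)) ↥H rfl hFT
      (hG.subgroup H)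
  exact term_nilpotent_of_solvable hG (isSolvable_of_orderCond hG hFT hsub) hsub

/-- The criterion in the form of the statement. -/
theorem lowerCentral_nilpotent_iff {G : Type u} [Group G] [Finite G] (k : ℕ)
    (hFT : ∀ (H : Type u) [Group H] [Finite H], Odd (Nat.card H) → Group.IsSolvable H) :
    Group.IsNilpotent ↥((⊤ : Subgroup G).lowerCentralSeries k) ↔
      ∀ x y : G, (∃ f : Fin (k + 1) → G, x = ((List.ofFn f).tail).foldl (fun a b => a * b * a⁻¹ * b⁻¹) (f 0)) →
        (∃ f : Fin (k + 1) → G, y = ((List.ofFn f).tail).foldl (fun a b => a * b * a⁻¹ * b⁻¹) (f 0)) →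
        (orderOf x).Coprime (orderOf y) →
        (∀ r : ℕ, r.Prime → r ∣ orderOf x * orderOf y → r ∣ orderOf (x * y)) ∨
          orderOf x * orderOf y ≤ orderOf (x * y) := by
  constructor
  · intro hn x y hx hy hc
    right
    have hx' := isVal_mem_lowerCentralSeries (isVal_iff.2 hx)
    have hy' := isVal_mem_lowerCentralSeries (isVal_iff.2 hy)
    have hcom : Commute x y := congrArg Subtype.val (Cfsg.Agent.Char.Star.commute_of_coprime_order
      (E := ↥((⊤ : Subgroup G).lowerCentralSeries k)) hn (x := ⟨x, hx'⟩) (y := ⟨y, hy'⟩)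
      (by rwa [Subgroup.orderOf_mk, Subgroup.orderOf_mk]))
    exact (hcom.orderOf_mul_eq_mul_orderOf_of_coprime hc).ge
  · intro h
    exact term_nilpotent_of_orderCond k _ G rfl hFT fun x y hx hy hc => h x y (isVal_iff.1 hx) (isVal_iff.1 hy) hc

end Cfsg.Agent.OddUse
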